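/-
Elements of odd prime order of `C(z) ∩ C(s)` in standard position: the image in `Co1` is that of a
prescribed permutation.
-/
import Cfsg.Agent.Lib.MonsterType.Frame
import Cfsg.Agent.Lib.Leech.Fixed.Quot

set_option autoImplicit false

namespace Cfsg.Agent.MonsterType

open Cfsg Cfsg.Agent.Leech

/-- Two elements of odd prime order with the same image under a homomorphism with a 2-group as
kernel are conjugate by an element of the kernel. -/
theorem exists_conj_eq {H K : Type*} [Group H] [Finite H] [Group K] (f : H →* K)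
    (hker : IsPGroup 2 f.ker) {p : ℕ} [hp : Fact p.Prime] (hp2 : p ≠ 2) {x y : H}
    (hx : orderOf x = p) (hy : orderOf y = p) (hf : f x = f y) :
    ∃ c ∈ f.ker, c * x * c⁻¹ = y := by
  have : Fact (Nat.Prime 2) := ⟨Nat.prime_two⟩
  obtain ⟨k, hk⟩ := IsPGroup.iff_card.1 hker
  set P := (Subgroup.zpowers (f x)).comap f with hP
  have hfx : orderOf (f x) = p := by
    have hd : orderOf (f x) ∣ p := hx ▸ orderOf_map_dvd f x
    rcases (Nat.dvd_prime hp.out).1 hd with h | h
    · exfalso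
      have hxk : x ∈ f.ker := orderOf_eq_one_iff.1 h
      have h2 : p ∣ 2 ^ k := by
        have := orderOf_dvd_natCard (⟨x, hxk⟩ : f.ker)
        rwa [hk, Subgroup.orderOf_mk, hx] at this
      exact hp2 ((Nat.prime_dvd_prime_iff_eq hp.out Nat.prime_two).1 (hp.out.dvd_of_dvd_pow h2))
    · exact h
  have hxP : x ∈ P := Subgroup.mem_zpowers (f x)
  have hyP : y ∈ P := by
    show f y ∈ Subgroup.zpowers (f x)
    rw [hf]; exact Subgroup.mem_zpowers _
  have hcard : Nat.card P ∣ 2 ^ k * p := by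
    have h1 := card_eq_ker_mul_range (f.comp P.subtype)
    have h2 : Nat.card (f.comp P.subtype).range ∣ p := by
      rw [← hfx, ← Nat.card_zpowers]
      refine Subgroup.card_dvd_of_le ?_
      rintro _ ⟨a, rfl⟩
      exact a.2
    have h3 : Nat.card (f.comp P.subtype).ker ∣ 2 ^ k := by
      rw [← hk]
      refine Subgroup.card_dvd_of_injective
        ((P.subtype.comp (f.comp P.subtype).ker.subtype).codRestrict f.ker fun a => a.2) ?_
      intro a b e
      exact Subtype.ext (Subtype.ext (congrArg (fun t : f.ker => (t : H)) e))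
    rw [h1]
    exact Nat.mul_dvd_mul h3 h2
  have hfac : (Nat.card P).factorization p = 1 := by
    have hdvd : p ∣ Nat.card P := by
      have := orderOf_dvd_natCard (⟨x, hxP⟩ : P)
      rwa [Subgroup.orderOf_mk, hx] at this
    refine le_antisymm ?_ ((Nat.Prime.dvd_iff_one_le_factorization hp.out Nat.card_pos.ne').1 hdvd)
    have h := (Nat.factorization_le_iff_dvd Nat.card_pos.ne'
      (Nat.mul_ne_zero (pow_ne_zero _ two_ne_zero) hp.out.ne_zero)).2 hcard p
    rwa [Nat.factorization_mul (pow_ne_zero _ two_ne_zero) hp.out.ne_zero, Finsupp.add_apply,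
      Nat.Prime.factorization_self hp.out, Nat.factorization_eq_zero_of_not_dvd
        (fun h => hp2 ((Nat.prime_dvd_prime_iff_eq hp.out Nat.prime_two).1 (hp.out.dvd_of_dvd_pow h))),
      zero_add] at h
  have hsyl : ∀ a : P, orderOf a = p → ∃ S : Sylow p P, (S : Subgroup P) = Subgroup.zpowers a :=
    fun a ha => ⟨Sylow.ofCard (Subgroup.zpowers a) (by rw [Nat.card_zpowers, ha, hfac, pow_one]), rfl⟩
  obtain ⟨S, hS⟩ := hsyl ⟨x, hxP⟩ (by rw [Subgroup.orderOf_mk, hx])
  obtain ⟨T, hT⟩ := hsyl ⟨y, hyP⟩ (by rw [Subgroup.orderOf_mk, hy])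
  obtain ⟨c, hc⟩ := MulAction.exists_smul_eq P S T
  obtain ⟨i, hi⟩ := Subgroup.mem_zpowers_iff.1 c.2
  set q : H := (c : H) * (x ^ i)⁻¹ with hq
  refine ⟨q, ?_, ?_⟩
  · rw [MonoidHom.mem_ker, hq, map_mul, map_inv, map_zpow, hi, mul_inv_cancel]
  have hmem : q * x * q⁻¹ ∈ Subgroup.zpowers y := by
    have h1 : c * ⟨x, hxP⟩ * c⁻¹ ∈ (T : Subgroup P) := by
      rw [← hc, Sylow.coe_subgroup_smul, hS]
      exact Subgroup.mem_map_of_mem _ (Subgroup.mem_zpowers _)
    rw [hT] at h1
    obtain ⟨j, hj⟩ := Subgroup.mem_zpowers_iff.1 h1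
    refine Subgroup.mem_zpowers_iff.2 ⟨j, ?_⟩
    have := congrArg Subtype.val hj
    simp only [Subgroup.coe_zpow, Subgroup.coe_mul, Subgroup.coe_inv] at this
    rw [this, hq]
    group
  obtain ⟨j, hj⟩ := Subgroup.mem_zpowers_iff.1 hmem
  have hfj : f y ^ j = f y := by
    rw [← map_zpow, hj, map_mul, map_mul, map_inv]
    have hqk : f q = 1 := by rw [hq, map_mul, map_inv, map_zpow, hi, mul_inv_cancel]
    rw [hqk, hf]
    group
  have hmod : f y ^ (j - 1) = 1 := by rw [zpow_sub, hfj, zpow_one, mul_inv_cancel]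
  rw [← orderOf_dvd_iff_zpow_eq_one, ← hf, hfx, ← hy] at hmod
  rw [← hj]
  have := orderOf_dvd_iff_zpow_eq_one.1 hmod
  rw [zpow_sub, zpow_one, mul_inv_eq_one] at this
  exact this

/-- The permutation part of a monomial element. -/
noncomputable def rho : monGrp →* M24 :=
  MonoidHom.mk' (fun g => (mono_decomp g.2).choose) fun a b => by
    obtain ⟨c, hc, ea⟩ := (mono_decomp a.2).choose_spec
    obtain ⟨d, hd, eb⟩ := (mono_decomp b.2).choose_spec
    obtain ⟨e, he, eab⟩ := (mono_decomp (a * b).2).choose_spec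
    obtain ⟨f, hf, ef⟩ : ∃ f, ∃ hf : f ∈ golayCode,
        ((a * b : monGrp) : Co0) = signElt f hf *
          permHom ((mono_decomp a.2).choose * (mono_decomp b.2).choose) := by
      have hs : signElt c hc * (permHom (mono_decomp a.2).choose * signElt d hd *
          (permHom (mono_decomp a.2).choose)⁻¹) ∈ signGrp := by
        refine signGrp.mul_mem ⟨c, hc, rfl⟩ ?_
        rw [perm_conj_sign]
        exact ⟨_, _, rfl⟩
      obtain ⟨f, hf, e'⟩ := hs
      refine ⟨f, hf, ?_⟩
      rw [← e', Subgroup.coe_mul, map_mul]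
      generalize (mono_decomp a.2).choose = α at ea ⊢
      generalize (mono_decomp b.2).choose = β at eb ⊢
      rw [ea, eb]
      group
    exact (Leech.Fixed.mono_decomp_unique (eab.symm.trans ef)).2

theorem rho_spec (g : monGrp) : ∃ (c : GolayPt → ZMod 2) (hc : c ∈ golayCode),
    (g : Co0) = signElt c hc * permHom (rho g) := (mono_decomp g.2).choose_spec

theorem rho_permHom (σ : M24) : rho ⟨permHom σ, permHom_mem_monGrp σ⟩ = σ := by
  obtain ⟨c, hc, e⟩ := rho_spec ⟨permHom σ, permHom_mem_monGrp σ⟩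
  have h0 : signElt (0 : GolayPt → ZMod 2) (zero_mem _) = 1 :=
    eq_of_smul_eq_smul (α := leechLattice) fun v => Subtype.ext (by
      rw [signElt_smul, one_smul]; funext i; simp [signFun, mem_supp])
  exact ((Leech.Fixed.mono_decomp_unique (c := 0) (c' := c) (hc := zero_mem _) (τ := σ)
    (τ' := rho ⟨permHom σ, permHom_mem_monGrp σ⟩) (hc' := hc) (by rw [h0, one_mul]; exact e)).2).symm

theorem rho_ker_two : IsPGroup 2 rho.ker := by
  intro g
  refine ⟨1, Subtype.ext (Subtype.ext ?_)⟩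
  obtain ⟨c, hc, e⟩ := rho_spec g.1
  have : rho g.1 = 1 := g.2
  rw [this, map_one, mul_one] at e
  show ((g.1 : Co0)) ^ 2 ^ 1 = 1
  rw [e, pow_one, pow_two, signElt_sq ⟨c, hc, rfl⟩]

theorem eq_or_neg_of_toCo1 {a b : Co0} (h : toCo1 a = toCo1 b) : b = a ∨ b = negElt * a := by
  have hc : b * a⁻¹ ∈ Subgroup.center Co0 := by
    rw [← QuotientGroup.eq_one_iff]
    show toCo1 (b * a⁻¹) = 1
    rw [map_mul, map_inv, h, mul_inv_cancel]
  rcases center_eq hc with e | e
  · exact Or.inl (mul_inv_eq_one.1 e)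
  · exact Or.inr (mul_inv_eq_iff_eq_mul.1 e)

theorem toCo1_negElt : toCo1 negElt = 1 := (QuotientGroup.eq_one_iff _).2 negElt_mem_center

theorem negElt_pow_two : negElt ^ 2 = 1 := by
  refine eq_of_smul_eq_smul (α := leechLattice) fun v => ?_
  rw [pow_two, mul_smul, negElt_smul, negElt_smul, neg_neg, one_smul]

variable {G : Type*} [Group G] [Finite G] {z : G}

/-- Standard position: after a change of coordinates, a generator of the group of order `p` maps
to the given permutation, provided it is conjugate to one in `M24`. -/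
theorem exists_position (M : Model z) {s : G}
    (hsQ : s ∈ M.Q) (hsc : IsConj z s) (hs1 : s ≠ z) {p : ℕ} [hp : Fact p.Prime] (hodd : Odd p)
    {b : G} (hb : Commute b z) (hbs : Commute b s) (hbo : orderOf b = p) (σ : M24) (hσ : orderOf σ = p)
    (hclass : ∀ (M' : Model z), M'.Q = M.Q → Rel z s (M'.L (eight none)) →
      ∀ g : monGrp, toCo1 (g : Co0) = M'.π ⟨b, Model.mem_C hb⟩ → orderOf (rho g) = p →
        ∃ (j : ℕ) (a : M24), a * rho g ^ j * a⁻¹ = σ) :
    ∃ (M' : Model z) (b' : G) (hb' : Commute b' z), M'.Q = M.Q ∧ Rel z s (M'.L (eight none)) ∧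
      orderOf b' = p ∧ Subgroup.zpowers b' = Subgroup.zpowers b ∧ Commute b' s ∧
      M'.π ⟨b', Model.mem_C hb'⟩ = toCo1 (permHom σ) := by
  have hp2 : p ≠ 2 := fun h => by subst h; exact absurd hodd (by decide)
  obtain ⟨v, hv, hvs⟩ := M.type64_of_conj hsQ hsc hs1
  obtain ⟨k, hk⟩ := co0_transitive (eight none) v 64 (by norm_num) (sqNorm_eight none) hv
  set M1 := M.twist k with hM1
  have hs8 : Rel z s (M1.L (eight none)) := by rw [hM1, Model.twist_L, hk]; exact hvs
  set c0 : Subgroup.centralizer ({z} : Set G) := ⟨b, Model.mem_C hb⟩ with hc0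
  obtain ⟨g0, hg0⟩ := QuotientGroup.mk_surjective (M1.π c0)
  have hmon0 : g0 ∈ monGrp :=
    mem_monGrp.2 (fixesStd_iff.2 (M1.cls_of_commute hs8 hg0 hbs))
  have hbne : M1.π c0 ≠ 1 := fun h => by
    have hbQ : b ∈ M1.Q := (M1.π_ker c0).1 h
    have h2 : orderOf b ∣ 2 ^ 25 := by
      have := orderOf_dvd_natCard (⟨b, hbQ⟩ : M1.Q)
      rwa [Subgroup.orderOf_mk, M1.card_Q] at this
    rw [hbo] at h2
    exact hp2 ((Nat.prime_dvd_prime_iff_eq hp.out Nat.prime_two).1 (hp.out.dvd_of_dvd_pow h2))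
  have hpp : toCo1 (g0 ^ p) = toCo1 1 := by
    rw [map_pow, map_one]
    show (QuotientGroup.mk g0 : Spor.Co1) ^ p = 1
    have hc : c0 ^ p = 1 := Subtype.ext (by show b ^ p = 1; rw [← hbo]; exact pow_orderOf_eq_one b)
    rw [hg0, ← map_pow, hc, map_one]
  -- a lift of order `p`
  obtain ⟨g, hgm, hgt, hgp⟩ : ∃ g, g ∈ monGrp ∧ toCo1 g = M1.π c0 ∧ g ^ p = 1 := by
    rcases eq_or_neg_of_toCo1 hpp with e | e
    · exact ⟨g0, hmon0, hg0, e.symm⟩
    · refine ⟨negElt * g0, monGrp.mul_mem (mem_monGrp.2 (fixesStd_iff.2 ?_)) hmon0,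
        by rw [map_mul, toCo1_negElt, one_mul]; exact hg0, ?_⟩
      · rw [negElt_smul]
        exact clsV_eq_iff.2 ⟨-eight none, by rw [sub_eq_add_neg]⟩
      · have hc : Commute negElt g0 := (Subgroup.mem_center_iff.1 negElt_mem_center g0).symm
        obtain ⟨q, hq⟩ := hodd
        rw [hc.mul_pow]
        have : negElt ^ p = negElt := by rw [hq, pow_succ, pow_mul, negElt_pow_two, one_pow, one_mul]
        rw [this, e]
  have hgo : orderOf (⟨g, hgm⟩ : monGrp) = p := by
    refine orderOf_eq_prime (Subtype.ext hgp) fun h => hbne ?_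
    rw [← hgt, show g = 1 from congrArg Subtype.val h, map_one]
  have hρo : orderOf (rho ⟨g, hgm⟩) = p := by
    refine orderOf_eq_prime (by rw [← map_pow, show (⟨g, hgm⟩ : monGrp) ^ p = 1 from Subtype.ext hgp,
      map_one]) fun h => ?_
    obtain ⟨n, hn⟩ := rho_ker_two ⟨⟨g, hgm⟩, h⟩
    have h2 : p ∣ 2 ^ n := hgo ▸ orderOf_dvd_of_pow_eq_one (congrArg Subtype.val hn)
    exact hp2 ((Nat.prime_dvd_prime_iff_eq hp.out Nat.prime_two).1 (hp.out.dvd_of_dvd_pow h2))
  obtain ⟨j, a, hja⟩ := hclass M1 rfl hs8 ⟨g, hgm⟩ hgt hρo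
  set x : monGrp := ⟨permHom a, permHom_mem_monGrp a⟩ * ⟨g, hgm⟩ ^ j *
    ⟨permHom a, permHom_mem_monGrp a⟩⁻¹ with hx
  have hρx : rho x = σ := by rw [hx, map_mul, map_mul, map_inv, map_pow, rho_permHom, hja]
  have hxo : orderOf x = p := by
    refine orderOf_eq_prime ?_ fun h => ?_
    · rw [hx, conj_pow, ← pow_mul, mul_comm, pow_mul, show (⟨g, hgm⟩ : monGrp) ^ p = 1 from Subtype.ext hgp,
        one_pow, mul_one, mul_inv_cancel]
    · rw [h, map_one] at hρx
      rw [← hρx, orderOf_one] at hσ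
      exact hp.out.one_lt.ne hσ
  obtain ⟨c, -, hc⟩ := exists_conj_eq rho rho_ker_two hp2 hxo (y := ⟨permHom σ, permHom_mem_monGrp σ⟩)
    (by rw [Subgroup.orderOf_mk, orderOf_injective permHom Leech.Fixed.permHom_inj, hσ])
    (by rw [hρx, rho_permHom])
  set m : Co0 := (c : Co0) * permHom a with hm
  have hmg : m * g ^ j * m⁻¹ = permHom σ := by
    have := congrArg Subtype.val hc
    simp only [hx, Subgroup.coe_mul, Subgroup.coe_inv, Subgroup.coe_pow] at this
    rw [hm, ← this]
    group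
  have hmmon : m ∈ monGrp := monGrp.mul_mem c.2 (permHom_mem_monGrp a)
  refine ⟨M1.twist m⁻¹, b ^ j, (hb.pow_left j), rfl, ?_, ?_, ?_, hbs.pow_left j, ?_⟩
  · rw [Model.twist_L]
    exact M1.rel_trans hs8 (M1.L_congr.2 (fixesStd_iff.1 (mem_monGrp.1 (monGrp.inv_mem hmmon))).symm)
  · refine orderOf_eq_prime ?_ fun h => ?_
    · rw [← pow_mul, mul_comm, pow_mul, ← hbo, pow_orderOf_eq_one, one_pow]
    · have h1 : g ^ j = 1 ∨ g ^ j = negElt * 1 := eq_or_neg_of_toCo1 (by
        rw [map_one, map_pow, hgt, ← map_pow]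
        exact ((M1.π_ker _).2 (by show b ^ j ∈ M1.Q; rw [h]; exact M1.Q.one_mem)).symm)
      rcases h1 with e | e
      · rw [e, mul_one, mul_inv_cancel] at hmg
        rw [← orderOf_injective permHom Leech.Fixed.permHom_inj, ← hmg, orderOf_one] at hσ
        exact hp.out.one_lt.ne hσ
      · have hz : m * negElt * m⁻¹ = negElt := by
          rw [Subgroup.mem_center_iff.1 negElt_mem_center m, mul_inv_cancel_right]
        rw [e, mul_one, hz] at hmg
        rw [← orderOf_injective permHom Leech.Fixed.permHom_inj, ← hmg] at hσ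
        have : orderOf negElt ∣ 2 := orderOf_dvd_of_pow_eq_one negElt_pow_two
        rw [hσ] at this
        exact hp2 ((Nat.prime_dvd_prime_iff_eq hp.out Nat.prime_two).1 this)
  · refine le_antisymm (Subgroup.zpowers_le.2 (pow_mem (Subgroup.mem_zpowers b) j)) ?_
    refine Subgroup.zpowers_le.2 ?_
    have hjp : ¬ p ∣ j := by
      rintro ⟨t, rfl⟩
      rw [pow_mul, show rho ⟨g, hgm⟩ ^ p = 1 from hρo ▸ pow_orderOf_eq_one _, one_pow, mul_one,
        mul_inv_cancel] at hja
      rw [← hja, orderOf_one] at hσ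
      exact hp.out.one_lt.ne hσ
    obtain ⟨n, hn⟩ := exists_pow_eq_self_of_coprime (x := b) (n := j)
      (by rw [hbo]; exact (hp.out.coprime_iff_not_dvd.2 hjp).symm)
    have := pow_mem (Subgroup.mem_zpowers (b ^ j)) n
    rwa [hn] at this
  · rw [Model.twist_π]
    have : M1.π ⟨b ^ j, Model.mem_C (hb.pow_left j)⟩ = toCo1 (g ^ j) := by
      rw [map_pow, hgt, ← map_pow]; rfl
    rw [this, ← hmg]
    show (toCo1 m⁻¹)⁻¹ * toCo1 (g ^ j) * toCo1 m⁻¹ = _
    simp only [map_mul, map_inv, inv_inv]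

/-- An element lifting an element that commutes with the image of `b` can be corrected by `Q` to
commute with `b`. -/
theorem exists_commute_lift (M : Model z) {p : ℕ} [hp : Fact p.Prime] (hp2 : p ≠ 2) {b : G}
    (hb : Commute b z) (hbo : orderOf b = p) (h : Subgroup.centralizer ({z} : Set G))
    (hc : M.π h * M.π ⟨b, Model.mem_C hb⟩ = M.π ⟨b, Model.mem_C hb⟩ * M.π h) :
    ∃ x : Subgroup.centralizer ({z} : Set G), M.π x = M.π h ∧ Commute (x : G) b := by
  set c0 : Subgroup.centralizer ({z} : Set G) := ⟨b, Model.mem_C hb⟩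
  have hker : IsPGroup 2 M.π.ker := by
    refine (IsPGroup.of_card (p := 2) (n := 25) M.card_Q).of_injective
      (MonoidHom.mk' (fun a => (⟨((a.1 : Subgroup.centralizer ({z} : Set G)) : G),
        (M.π_ker a.1).1 a.2⟩ : M.Q)) fun a b => rfl) fun a b e => ?_
    exact Subtype.ext (Subtype.ext (congrArg (fun t : M.Q => (t : G)) e))
  have h1 : orderOf c0 = p := by rw [Subgroup.orderOf_mk, hbo]
  have h2 : orderOf (h * c0 * h⁻¹) = p :=
    (orderOf_injective (MulAut.conj h).toMonoidHom (MulAut.conj h).injective c0).trans h1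
  obtain ⟨c, hck, hcc⟩ := exists_conj_eq M.π hker hp2 h2 h1 (by
    rw [map_mul, map_mul, map_inv, hc, mul_inv_cancel_right])
  refine ⟨c * h, by rw [map_mul, MonoidHom.mem_ker.1 hck, one_mul], ?_⟩
  have := congrArg Subtype.val hcc
  simp only [Subgroup.coe_mul, Subgroup.coe_inv] at this
  refine mul_inv_eq_iff_eq_mul.1 ?_
  show (c : G) * (h : G) * b * ((c : G) * (h : G))⁻¹ = b
  rw [mul_inv_rev]
  exact (by group : (c : G) * (h : G) * b * ((h : G)⁻¹ * (c : G)⁻¹) =
    (c : G) * ((h : G) * b * (h : G)⁻¹) * (c : G)⁻¹).trans this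

end Cfsg.Agent.MonsterType
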