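/-
`C(B)/B` for a subgroup `B` of odd prime order in standard position: the involution `z̄`, the
extraspecial group `Q̄` and the quotient of its centraliser.
-/
import Cfsg.Agent.Lib.MonsterType.OddCent.Position
import Cfsg.Agent.Lib.Components.GenFitting
import Cfsg.Agent.Lib.PGroup.SymplecticType
import Cfsg.Agent.Lib.PCore.Basic

set_option autoImplicit false
set_option linter.unusedSectionVars false

namespace Cfsg.Agent.MonsterType

open Cfsg Cfsg.Agent.Leech Cfsg.Agent.Leech.Fixed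

variable {G : Type*} [Group G] [Finite G] {z : G}

/-- The data of an element of odd prime order in standard position. -/
structure OddPos (z : G) (B : Subgroup G) where
  /-- the model -/
  M : Model z
  /-- the lattice data -/
  D : Data
  hD : D.OK
  /-- the generator -/
  b : G
  hbz : Commute b z
  hbo : orderOf b = D.p
  hB : Subgroup.zpowers b = B
  hπ : M.π ⟨b, Model.mem_C hbz⟩ = toCo1 hD.g

namespace OddPos

variable {B : Subgroup G} (P : OddPos z B)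

/-- `C(z) ∩ C(B)`. -/
abbrev D0 (_P : OddPos z B) : Subgroup G :=
  Subgroup.centralizer ({z} : Set G) ⊓ Subgroup.centralizer (B : Set G)

include P

theorem mem_CB {x : G} : x ∈ Subgroup.centralizer (B : Set G) ↔ Commute x P.b := by
  rw [Subgroup.mem_centralizer_iff]
  constructor
  · exact fun h => (h P.b (P.hB.le (Subgroup.mem_zpowers P.b))).symm
  · intro h y hy
    obtain ⟨k, rfl⟩ := Subgroup.mem_zpowers_iff.1 (P.hB.ge hy)
    exact (h.symm.zpow_left k).eq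

theorem prime : P.D.p.Prime := P.hD.prime

theorem p_ne_two : P.D.p ≠ 2 := fun h => by
  have := P.hD.odd
  rw [h] at this
  exact absurd this (by decide)

theorem mem_B_pow {x : G} (hx : x ∈ B) : x ^ P.D.p = 1 := by
  obtain ⟨k, rfl⟩ := Subgroup.mem_zpowers_iff.1 (P.hB.ge hx)
  rw [← zpow_natCast, ← zpow_mul, mul_comm, zpow_mul, zpow_natCast, ← P.hbo, pow_orderOf_eq_one,
    one_zpow]

theorem eq_one_of_pow_two {x : G} (hx : x ∈ B) {k : ℕ} (h : x ^ 2 ^ k = 1) : x = 1 := by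
  have := Fact.mk P.prime
  by_contra hne
  have ho : orderOf x = P.D.p := orderOf_eq_prime (P.mem_B_pow hx) hne
  have h2 := orderOf_dvd_of_pow_eq_one h
  rw [ho] at h2
  exact P.p_ne_two ((Nat.prime_dvd_prime_iff_eq P.prime Nat.prime_two).1 (P.prime.dvd_of_dvd_pow h2))

theorem eq_one_of_mem_Q {x : G} (hx : x ∈ B) (hxQ : x ∈ P.M.Q) : x = 1 := by
  refine P.eq_one_of_pow_two hx (k := 25) ?_
  have := pow_card_eq_one' (G := P.M.Q) (x := ⟨x, hxQ⟩)
  rw [P.M.card_Q] at this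
  exact congrArg Subtype.val this

theorem z_mem_CB : z ∈ Subgroup.centralizer (B : Set G) := P.mem_CB.2 P.hbz.symm

theorem mem_B_comm {x β : G} (hx : x ∈ Subgroup.centralizer (B : Set G)) (hβ : β ∈ B) :
    Commute x β := (Subgroup.mem_centralizer_iff.1 hx β hβ).symm

theorem B_le_CB : B ≤ Subgroup.centralizer (B : Set G) := fun x hx => P.mem_CB.2 (by
  obtain ⟨k, rfl⟩ := Subgroup.mem_zpowers_iff.1 (P.hB.ge hx)
  exact (Commute.refl P.b).zpow_left k)

theorem b_mem_D0 : P.b ∈ P.D0 := ⟨Model.mem_C P.hbz, P.mem_CB.2 (Commute.refl _)⟩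

theorem D0_commute (x : P.D0) : Commute (x : G) z := Model.commute_of_mem_C x.2.1

/-! ### Lifts to the lattice group -/

omit P in
theorem mem_C0_of_commute {D : Data} (hD : D.OK) {g0 : Co0}
    (h : toCo1 g0 * toCo1 hD.g = toCo1 hD.g * toCo1 g0) : g0 ∈ hD.C0 := by
  have e : toCo1 (g0 * hD.g * g0⁻¹) = toCo1 hD.g := by
    rw [map_mul, map_mul, map_inv, h, mul_inv_cancel_right]
  rcases eq_or_neg_of_toCo1 e.symm with e' | e'
  · exact hD.mem_C0.2 (mul_inv_eq_iff_eq_mul.1 e')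
  exfalso
  have h1 : (g0 * hD.g * g0⁻¹) ^ D.p = 1 := by
    rw [conj_pow, ← hD.orderOf_g, pow_orderOf_eq_one, mul_one, mul_inv_cancel]
  have hc : Commute negElt hD.g := (Subgroup.mem_center_iff.1 negElt_mem_center hD.g).symm
  rw [e', hc.mul_pow, ← hD.orderOf_g, pow_orderOf_eq_one, mul_one, hD.orderOf_g] at h1
  obtain ⟨k, hk⟩ := hD.odd
  rw [hk, pow_succ, pow_mul, negElt_pow_two, one_pow, one_mul] at h1
  exact negElt_ne_one h1

theorem exists_g0 (x : P.D0) :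
    ∃ g0 : P.hD.C0, toCo1 (g0 : Co0) = P.M.π ⟨x, x.2.1⟩ := by
  obtain ⟨g0, hg0⟩ := QuotientGroup.mk_surjective (P.M.π ⟨x, x.2.1⟩)
  have hc : (⟨(x : G), x.2.1⟩ : Subgroup.centralizer ({z} : Set G)) * ⟨P.b, Model.mem_C P.hbz⟩ =
      ⟨P.b, Model.mem_C P.hbz⟩ * ⟨(x : G), x.2.1⟩ := Subtype.ext (P.mem_CB.1 x.2.2).eq
  refine ⟨⟨g0, mem_C0_of_commute P.hD ?_⟩, hg0⟩
  show (QuotientGroup.mk g0 : Spor.Co1) * _ = _ * QuotientGroup.mk g0
  rw [hg0, ← P.hπ, ← map_mul, ← map_mul, hc]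

theorem negElt_mem_Z' {a b : P.hD.C0} (h : toCo1 (a : Co0) = toCo1 (b : Co0)) :
    (((a⁻¹ * b : P.hD.C0)) : Co0) ∈ P.hD.Z := by
  rw [Subgroup.coe_mul, Subgroup.coe_inv]
  rcases eq_or_neg_of_toCo1 h with e | e
  · rw [e, inv_mul_cancel]; exact one_mem _
  · rw [e, Subgroup.mem_center_iff.1 negElt_mem_center (a : Co0) |>.symm, inv_mul_cancel_left]
    exact P.hD.negElt_mem_Z

/-- The quotient data: a homomorphism from the centraliser in `Co0`. -/
structure Quo (n : ℕ) where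
  /-- the homomorphism -/
  Ψ : P.hD.C0 →* Equiv.Perm (Fin n)
  /-- its image -/
  K : Subgroup (Equiv.Perm (Fin n))
  range : Ψ.range = K
  ker : ∀ h, Ψ h = 1 ↔ (h : Co0) ∈ P.hD.Z
  triv : ∀ h, (∀ m, P.hD.act h m = m) → Ψ h = 1

variable {n : ℕ} (R : P.Quo n)

omit P in
theorem Quo.congr {P : OddPos z B} (R : P.Quo n) {a b : P.hD.C0}
    (h : toCo1 (a : Co0) = toCo1 (b : Co0)) : R.Ψ a = R.Ψ b := by
  have := (R.ker (a⁻¹ * b)).2 (P.negElt_mem_Z' h)
  rwa [map_mul, map_inv, inv_mul_eq_one] at this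

/-- `C(z) ∩ C(B) → K`. -/
noncomputable def nu : P.D0 →* Equiv.Perm (Fin n) :=
  MonoidHom.mk' (fun x => R.Ψ (P.exists_g0 x).choose) fun x y => by
    rw [← map_mul]
    refine R.congr ?_
    refine (P.exists_g0 (x * y)).choose_spec.trans ?_
    show P.M.π (⟨(x : G), x.2.1⟩ * ⟨(y : G), y.2.1⟩) =
      toCo1 (((P.exists_g0 x).choose : Co0) * ((P.exists_g0 y).choose : Co0))
    rw [map_mul toCo1, (P.exists_g0 x).choose_spec, (P.exists_g0 y).choose_spec, map_mul]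

theorem nu_eq {x : P.D0} {a : P.hD.C0} (h : toCo1 (a : Co0) = P.M.π ⟨x, x.2.1⟩) :
    P.nu R x = R.Ψ a := R.congr ((P.exists_g0 x).choose_spec.trans h.symm)

theorem nu_range : (P.nu R).range = R.K := by
  refine le_antisymm ?_ fun k hk => ?_
  · rintro _ ⟨x, rfl⟩
    rw [← R.range]
    exact ⟨_, rfl⟩
  · rw [← R.range] at hk
    obtain ⟨a, rfl⟩ := hk
    obtain ⟨h, hh⟩ := P.M.π_surj (toCo1 (a : Co0))
    have := Fact.mk P.prime
    obtain ⟨x, hx, hxb⟩ := exists_commute_lift P.M P.p_ne_two P.hbz P.hbo h (by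
      rw [hh, P.hπ, ← map_mul, ← map_mul]
      exact congrArg toCo1 (P.hD.mem_C0.1 a.2))
    exact ⟨⟨x, x.2, P.mem_CB.2 hxb⟩, P.nu_eq R (a := a) (by rw [← hh, ← hx])⟩

theorem mem_nu_ker {x : P.D0} :
    P.nu R x = 1 ↔ ∃ β ∈ B, (x : G) * β ∈ P.M.Q := by
  constructor
  · intro h
    obtain ⟨a, ha⟩ := P.exists_g0 x
    rw [P.nu_eq R ha, R.ker] at h
    obtain ⟨k, hk⟩ := Subgroup.mem_zpowers_iff.1 h
    refine ⟨P.b ^ (-k), P.hB.le (Subgroup.zpow_mem _ (Subgroup.mem_zpowers _) _), ?_⟩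
    refine (P.M.π_ker ⟨(x : G) * P.b ^ (-k),
      Subgroup.mul_mem _ x.2.1 (Subgroup.zpow_mem _ (Model.mem_C P.hbz) _)⟩).1 ?_
    rw [show (⟨(x : G) * P.b ^ (-k), Subgroup.mul_mem _ x.2.1
      (Subgroup.zpow_mem _ (Model.mem_C P.hbz) _)⟩ : Subgroup.centralizer ({z} : Set G)) =
      ⟨(x : G), x.2.1⟩ * ⟨P.b, Model.mem_C P.hbz⟩ ^ (-k) from rfl, map_mul, map_zpow, P.hπ, ← ha, ← hk,
      map_zpow, map_mul, toCo1_negElt, one_mul, zpow_neg, mul_inv_cancel]
  · rintro ⟨β, hβ, hQ⟩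
    obtain ⟨k, rfl⟩ := Subgroup.mem_zpowers_iff.1 (P.hB.ge hβ)
    rw [P.nu_eq R (a := ⟨P.hD.g, P.hD.g_mem_C0⟩ ^ (-k)), R.ker]
    · rw [Subgroup.coe_zpow]; exact Subgroup.zpow_mem _ P.hD.g_mem_Z _
    · rw [Subgroup.coe_zpow, map_zpow, ← P.hπ, ← map_zpow]
      refine inv_mul_eq_one.1 ?_
      rw [← map_inv, ← map_mul]
      refine (P.M.π_ker _).2 ?_
      have e : ((⟨P.b, Model.mem_C P.hbz⟩ : Subgroup.centralizer ({z} : Set G)) ^ (-k))⁻¹ *
          (⟨(x : G), x.2.1⟩ : Subgroup.centralizer ({z} : Set G)) =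
          ⟨P.b ^ k * (x : G), Subgroup.mul_mem _ (Subgroup.zpow_mem _ (Model.mem_C P.hbz) _) x.2.1⟩ :=
        Subtype.ext (by
          show (P.b ^ (-k))⁻¹ * (x : G) = _
          rw [zpow_neg, inv_inv])
      rw [e]
      show P.b ^ k * (x : G) ∈ P.M.Q
      rw [((P.mem_CB.1 x.2.2).symm.zpow_left k).eq]
      exact hQ

/-! ### `Q ∩ C(B)` -/

theorem mem_D0_of_mem_Q {a : G} (ha : a ∈ P.M.Q) (hab : Commute a P.b) : a ∈ P.D0 :=
  ⟨P.M.Q_le_C ha, P.mem_CB.2 hab⟩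

theorem fixed_of_commute {a : G} {v : leechLattice} (hv : Rel z a (P.M.L v)) (hab : Commute P.b a) :
    P.hD.Fixed v := P.M.cls_of_commute hv (h := ⟨P.b, Model.mem_C P.hbz⟩) P.hπ.symm hab

theorem commute_of_fixed {a : G} {v : leechLattice} (hv : Rel z a (P.M.L v)) (hf : P.hD.Fixed v) :
    Commute P.b a := by
  have h := P.M.rel_trans (P.M.act_rel ⟨P.b, Model.mem_C P.hbz⟩ P.hπ.symm hv)
    (P.M.rel_trans (P.M.L_congr.2 hf) (P.M.rel_symm hv))
  rcases h with e | e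
  · exact mul_inv_eq_iff_eq_mul.1 e
  exfalso
  have key : ∀ k : ℕ, P.b ^ k * a * (P.b ^ k)⁻¹ = a * z ^ k := by
    intro k
    induction k with
    | zero => simp
    | succ k ih =>
      calc P.b ^ (k + 1) * a * (P.b ^ (k + 1))⁻¹ = P.b * (P.b ^ k * a * (P.b ^ k)⁻¹) * P.b⁻¹ := by
            rw [pow_succ']; group
        _ = P.b * a * P.b⁻¹ * (P.b * z ^ k * P.b⁻¹) := by rw [ih]; group
        _ = a * z ^ (k + 1) := by
            rw [(P.hbz.pow_right k).eq, mul_inv_cancel_right, pow_succ']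
            have e' : P.b * a * P.b⁻¹ = a * z := e
            rw [e', mul_assoc]
  have hp := key P.D.p
  rw [← P.hbo, pow_orderOf_eq_one, one_mul, inv_one, mul_one, P.hbo] at hp
  obtain ⟨q, hq⟩ := P.hD.odd
  rw [hq, pow_succ, pow_mul, pow_two, P.M.zz, one_pow, one_mul, left_eq_mul] at hp
  exact P.M.hub.ne_one hp

/-- The element with coordinates `m`. -/
noncomputable def elt (m : P.D.F) : G := P.M.L (P.hD.comb m)

theorem elt_mem (m : P.D.F) : P.elt m ∈ P.M.Q := P.M.L_mem _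

theorem elt_commute (m : P.D.F) : Commute P.b (P.elt m) :=
  P.commute_of_fixed (Model.rel_refl _) (P.hD.fixed_comb m)

theorem exists_elt_rel {a : G} (ha : a ∈ P.M.Q) (hab : Commute P.b a) : ∃ m, Rel z a (P.elt m) := by
  obtain ⟨v, hv⟩ := P.M.L_surj a ha
  exact ⟨_, P.M.rel_trans hv (P.M.L_congr.2 (P.hD.coord_spec (P.fixed_of_commute hv hab)))⟩

theorem elt_rel_inj {m m' : P.D.F} (h : Rel z (P.elt m) (P.elt m')) : m = m' :=
  P.hD.comb_injective (P.M.L_congr.1 h)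

/-- `Q ∩ C(B)` is the union of two copies of the fixed classes. -/
theorem qEquiv_bijective : Function.Bijective (fun p : P.D.F × Bool =>
    (⟨⟨P.elt p.1 * (if p.2 then z else 1), P.mem_D0_of_mem_Q
      (P.M.Q.mul_mem (P.elt_mem _) (by split_ifs; exacts [P.M.hub.mem, P.M.Q.one_mem]))
      (Commute.mul_left (P.elt_commute _).symm (by split_ifs; exacts [P.hbz.symm, Commute.one_left _]))⟩,
      P.M.Q.mul_mem (P.elt_mem _) (by split_ifs; exacts [P.M.hub.mem, P.M.Q.one_mem])⟩ :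
      P.M.Q.subgroupOf P.D0)) := by
  refine ⟨?_, fun a => ?_⟩
  · rintro ⟨m, i⟩ ⟨m', j⟩ h
    have h' : P.elt m * (if i then z else 1) = P.elt m' * (if j then z else 1) :=
      congrArg (fun t : P.M.Q.subgroupOf P.D0 => ((t : P.D0) : G)) h
    have hr : Rel z (P.elt m) (P.elt m') := by
      cases i <;> cases j <;> simp only [Bool.false_eq_true, if_false, if_true, mul_one] at h'
      · exact Or.inl h'
      · exact Or.inr h'
      · exact P.M.rel_symm (Or.inr h'.symm)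
      · exact Or.inl (mul_right_cancel h')
    obtain rfl := P.elt_rel_inj hr
    refine Prod.ext rfl ?_
    have := mul_left_cancel h'
    cases i <;> cases j <;> simp_all [P.M.hub.ne_one, eq_comm (a := (1 : G))]
  · obtain ⟨m, hm⟩ := P.exists_elt_rel (a := ((a : P.D0) : G)) a.2 (P.mem_CB.1 a.1.2.2).symm
    rcases hm with e | e
    · exact ⟨(m, false), Subtype.ext (Subtype.ext (by simp [e]))⟩
    · exact ⟨(m, true), Subtype.ext (Subtype.ext (by simp [e]))⟩

theorem card_QD0 : Nat.card (P.M.Q.subgroupOf P.D0) = 2 ^ (P.D.d + 1) := by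
  rw [← Nat.card_congr (Equiv.ofBijective _ P.qEquiv_bijective), Nat.card_prod,
    Nat.card_fun, Nat.card_zmod, Nat.card_eq_fintype_card (α := Bool), Fintype.card_bool, Nat.card_fin,
    pow_succ]

theorem exists_not_commute {m : P.D.F} (hm : m ≠ 0) :
    ∃ k, ¬ Commute (P.elt m) (P.M.L (P.hD.vec k)) := by
  obtain ⟨k, hk⟩ := P.hD.indep m hm
  refine ⟨k, fun h => hk ?_⟩
  have := P.M.commute_L.1 h
  rwa [P.hD.comb_val, show (P.hD.vec k : GolayPt → ℤ) = toVec (P.D.basis k) from rfl, dotInt_toVec] at this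

theorem vec_commute (k : Fin P.D.d) : Commute P.b (P.M.L (P.hD.vec k)) :=
  P.commute_of_fixed (Model.rel_refl _) (congrArg clsV (P.hD.g_vec k))

end OddPos

end Cfsg.Agent.MonsterType
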