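/-
The centraliser of `z̄` in `C(B)/B`: generalised Fitting subgroup, quotient, fusion.
-/
import Cfsg.Agent.Lib.MonsterType.OddCent.Setting

set_option autoImplicit false
set_option linter.unusedSectionVars false

namespace Cfsg.Agent.MonsterType

open Cfsg Cfsg.Agent.Leech Cfsg.Agent.Leech.Fixed

variable {G : Type*} [Group G] [Finite G] {z : G}

namespace OddPos

variable {B : Subgroup G} (P : OddPos z B)
  [(B.subgroupOf (Subgroup.centralizer (B : Set G))).Normal]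

/-- `C(B)/B`. -/
abbrev CBar (_P : OddPos z B) : Type _ :=
  Subgroup.centralizer (B : Set G) ⧸ B.subgroupOf (Subgroup.centralizer (B : Set G))

include P

theorem mk_eq_one {x : Subgroup.centralizer (B : Set G)} :
    (QuotientGroup.mk x : P.CBar) = 1 ↔ (x : G) ∈ B := by
  rw [QuotientGroup.eq_one_iff, Subgroup.mem_subgroupOf]

/-- The involution `z̄`. -/
noncomputable def zBar : P.CBar := QuotientGroup.mk ⟨z, P.z_mem_CB⟩

theorem conj_zBar (a : Subgroup.centralizer (B : Set G)) :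
    (QuotientGroup.mk a : P.CBar) * P.zBar * (QuotientGroup.mk a)⁻¹ =
      QuotientGroup.mk (a * ⟨z, P.z_mem_CB⟩ * a⁻¹) := rfl

/-- `C(z) ∩ C(B) → C(z̄)`. -/
noncomputable def eta : P.D0 →* Subgroup.centralizer ({P.zBar} : Set P.CBar) :=
  MonoidHom.mk' (fun x => ⟨QuotientGroup.mk ⟨x, x.2.2⟩, by
    rw [Subgroup.mem_centralizer_singleton_iff, zBar, ← QuotientGroup.mk_mul, ← QuotientGroup.mk_mul]
    exact congrArg _ (Subtype.ext (P.D0_commute x).eq)⟩)
    fun x y => Subtype.ext rfl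

theorem eta_eq_one {x : P.D0} : P.eta x = 1 ↔ (x : G) ∈ B := by
  rw [Subtype.ext_iff]
  exact P.mk_eq_one

theorem eta_surjective : Function.Surjective P.eta := by
  rintro ⟨y, hy⟩
  obtain ⟨⟨x, hx⟩, rfl⟩ := QuotientGroup.mk_surjective y
  have h1 := Subgroup.mem_centralizer_singleton_iff.1 hy
  rw [zBar, ← QuotientGroup.mk_mul, ← QuotientGroup.mk_mul, eq_comm, ← inv_mul_eq_one,
    ← QuotientGroup.mk_inv, ← QuotientGroup.mk_mul, P.mk_eq_one] at h1
  set β : G := (z * x)⁻¹ * (x * z) with hβ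
  have h1' : β ∈ B := h1
  have hzx : x * z * x⁻¹ = z * (x * β * x⁻¹) := by rw [hβ]; group
  rw [(P.mem_B_comm hx h1').eq, mul_inv_cancel_right] at hzx
  have hzβ : Commute z β := P.mem_B_comm P.z_mem_CB h1'
  have h2 : β ^ 2 ^ 1 = 1 := by
    have : (x * z * x⁻¹) ^ 2 = 1 := by rw [conj_pow, pow_two, P.M.zz, mul_one, mul_inv_cancel]
    rw [hzx, hzβ.mul_pow, pow_two z, P.M.zz, one_mul] at this
    simpa using this
  rw [P.eq_one_of_pow_two h1' h2, mul_one] at hzx
  exact ⟨⟨x, Model.mem_C (mul_inv_eq_iff_eq_mul.1 hzx), hx⟩, rfl⟩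

/-- The image of `Q ∩ C(B)`. -/
noncomputable def qBar : Subgroup (Subgroup.centralizer ({P.zBar} : Set P.CBar)) :=
  (P.M.Q.subgroupOf P.D0).map P.eta

theorem qBar_normal : P.qBar.Normal := by
  have : (P.M.Q.subgroupOf P.D0).Normal :=
    ⟨fun a ha x => P.M.hub.normalizes x (P.D0_commute x) a ha⟩
  exact this.map _ P.eta_surjective

theorem eta_inj_Q {x y : P.D0} (hx : (x : G) ∈ P.M.Q) (hy : (y : G) ∈ P.M.Q) (h : P.eta x = P.eta y) :
    x = y := by
  have h1 : P.eta (x⁻¹ * y) = 1 := by rw [map_mul, map_inv, h, inv_mul_cancel]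
  have h2 := P.eq_one_of_mem_Q ((P.eta_eq_one).1 h1) (P.M.Q.mul_mem (P.M.Q.inv_mem hx) hy)
  exact Subtype.ext (inv_mul_eq_one.1 h2)

theorem card_qBar : Nat.card P.qBar = 2 ^ (P.D.d + 1) := by
  rw [← P.card_QD0]
  refine (Nat.card_congr (Equiv.ofBijective (fun a : P.M.Q.subgroupOf P.D0 =>
    (⟨P.eta a, a, a.2, rfl⟩ : P.qBar)) ⟨fun a b h => ?_, fun a => ?_⟩)).symm
  · exact Subtype.ext (P.eta_inj_Q a.2 b.2 (congrArg Subtype.val h))
  · obtain ⟨x, hx, hxa⟩ := a.2
    exact ⟨⟨x, hx⟩, Subtype.ext hxa⟩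

theorem z_mem_D0 : z ∈ P.D0 := P.mem_D0_of_mem_Q P.M.hub.mem P.hbz.symm

/-- `z̄` in `qBar`. -/
noncomputable def zeta : P.qBar := ⟨P.eta ⟨z, P.z_mem_D0⟩, ⟨_, P.M.hub.mem, rfl⟩⟩

theorem mem_center_qBar {a : P.qBar} : a ∈ Subgroup.center P.qBar ↔ a = 1 ∨ a = P.zeta := by
  constructor
  · intro ha
    obtain ⟨x, hx, hxa⟩ := a.2
    have hxc : ∀ p : G, p ∈ P.M.Q → Commute p P.b → Commute (x : G) p := by
      intro p hp hpb
      have h := congrArg Subtype.val (Subgroup.mem_center_iff.1 ha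
        ⟨P.eta ⟨p, P.mem_D0_of_mem_Q hp hpb⟩, _, hp, rfl⟩)
      simp only [Subgroup.coe_mul] at h
      rw [← hxa, ← map_mul, ← map_mul] at h
      exact (congrArg Subtype.val (P.eta_inj_Q (P.M.Q.mul_mem hp hx) (P.M.Q.mul_mem hx hp) h)).symm
    obtain ⟨m, hm⟩ := P.exists_elt_rel (a := (x : G)) hx (P.mem_CB.1 x.2.2).symm
    have hm0 : m = 0 := by
      by_contra h
      obtain ⟨k, hk⟩ := P.exists_not_commute h
      apply hk
      have hxk := hxc _ (P.M.L_mem (P.hD.vec k)) (P.vec_commute k).symm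
      rw [← Model.kap_eq_zero] at hxk ⊢
      rwa [← P.M.kap_rel (P.elt_mem m) (P.M.L_mem _) hm]
    have h0 : Rel z (x : G) 1 := P.M.rel_trans hm (P.M.rel_trans
      (by rw [hm0, elt, P.hD.comb_zero]; exact Or.inl rfl) P.M.L_zero)
    rcases Model.rel_one.1 h0 with e | e
    · exact Or.inl (Subtype.ext (hxa.symm.trans (by rw [show x = 1 from Subtype.ext e, map_one]; rfl)))
    · exact Or.inr (Subtype.ext (hxa.symm.trans (congrArg P.eta (Subtype.ext e))))
  · rintro (rfl | rfl)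
    · exact one_mem _
    · refine Subgroup.mem_center_iff.2 fun b => Subtype.ext (Subtype.ext ?_)
      simp only [Subgroup.coe_mul]
      exact Subgroup.mem_centralizer_singleton_iff.1 b.1.2

theorem zeta_ne : P.zeta ≠ 1 := fun e => P.M.hub.ne_one
  (congrArg Subtype.val (P.eta_inj_Q (x := ⟨z, P.z_mem_D0⟩) (y := 1) P.M.hub.mem P.M.Q.one_mem
    (by rw [map_one]; exact congrArg Subtype.val e)))

theorem card_center_qBar : Nat.card (Subgroup.center P.qBar) = 2 := by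
  rw [Nat.card_eq_two_iff]
  refine ⟨1, ⟨P.zeta, P.mem_center_qBar.2 (Or.inr rfl)⟩,
    fun e => P.zeta_ne (congrArg Subtype.val e).symm, Set.eq_univ_of_forall fun a => ?_⟩
  exact (P.mem_center_qBar.1 a.2).imp (fun h => Subtype.ext h) (fun h => Subtype.ext h)

theorem qBar_extraspecial (hd : 0 < P.D.d) : Cfsg.IsExtraspecial 2 P.qBar := by
  have : Fact (Nat.Prime 2) := ⟨Nat.prime_two⟩
  refine PGroup.isExtraspecial_of (IsPGroup.of_card P.card_qBar) P.card_center_qBar ?_ ?_ ?_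
  · intro htop
    have h := P.card_center_qBar
    rw [htop, Subgroup.card_top, P.card_qBar] at h
    have : 2 ^ (1 + 1) ≤ 2 ^ (P.D.d + 1) := Nat.pow_le_pow_right (by norm_num) (by omega)
    omega
  · intro a b
    obtain ⟨x, hx, hxa⟩ := a.2
    obtain ⟨y, hy, hyb⟩ := b.2
    rw [commutatorElement_def, P.mem_center_qBar]
    have e : ((a * b * a⁻¹ * b⁻¹ : P.qBar) : Subgroup.centralizer ({P.zBar} : Set P.CBar)) =
        P.eta (x * y * x⁻¹ * y⁻¹) := by
      simp [map_mul, map_inv, hxa, hyb]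
    rcases P.M.comm_cases hy hx with h | h
    · refine Or.inl (Subtype.ext (e.trans ?_))
      rw [show x * y * x⁻¹ * y⁻¹ = 1 from Subtype.ext h, map_one]; rfl
    · exact Or.inr (Subtype.ext (e.trans (congrArg P.eta (Subtype.ext h))))
  · intro a
    obtain ⟨x, hx, hxa⟩ := a.2
    rw [P.mem_center_qBar, pow_two]
    have e : ((a * a : P.qBar) : Subgroup.centralizer ({P.zBar} : Set P.CBar)) = P.eta (x * x) := by
      simp [map_mul, hxa]
    rcases P.M.hub.sq_cases x hx with h | h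
    · refine Or.inl (Subtype.ext (e.trans ?_))
      rw [show x * x = 1 from Subtype.ext h, map_one]; rfl
    · exact Or.inr (Subtype.ext (e.trans (congrArg P.eta (Subtype.ext h))))

/-! ### The quotient -/

variable {n : ℕ} (R : P.Quo n)

theorem comap_qBar : P.qBar.comap P.eta = (P.nu R).ker := by
  ext x
  rw [MonoidHom.mem_ker, P.mem_nu_ker R, Subgroup.mem_comap]
  constructor
  · rintro ⟨y, hy, e⟩
    refine ⟨((x⁻¹ * y : P.D0) : G), P.eta_eq_one.1 (by rw [map_mul, map_inv, e, inv_mul_cancel]), ?_⟩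
    rw [Subgroup.coe_mul, Subgroup.coe_inv, mul_inv_cancel_left]
    exact hy
  · rintro ⟨β, hβ, hQ⟩
    have hβD : β ∈ P.D0 :=
      ⟨Model.mem_C (P.mem_B_comm P.z_mem_CB hβ).symm, P.B_le_CB hβ⟩
    refine ⟨x * ⟨β, hβD⟩, hQ, ?_⟩
    rw [map_mul, (P.eta_eq_one (x := ⟨β, hβD⟩)).2 hβ, mul_one]

theorem quot_equiv [P.qBar.Normal] :
    Nonempty (Subgroup.centralizer ({P.zBar} : Set P.CBar) ⧸ P.qBar ≃* R.K) := by
  set ν := (QuotientGroup.mk' P.qBar).comp P.eta with hν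
  have hνs : Function.Surjective ν := (QuotientGroup.mk'_surjective _).comp P.eta_surjective
  have hνk : ν.ker = (P.nu R).ker := by
    rw [← P.comap_qBar R, hν, ← MonoidHom.comap_ker, QuotientGroup.ker_mk']
  exact ⟨(QuotientGroup.quotientKerEquivOfSurjective ν hνs).symm.trans
    ((QuotientGroup.quotientMulEquivOfEq hνk).trans
      ((QuotientGroup.quotientKerEquivRange (P.nu R)).trans
        (MulEquiv.subgroupCongr (P.nu_range R))))⟩

theorem qBar_genFitting (_hd : 0 < P.D.d)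
    (hK : ∀ N : Subgroup R.K, N.Normal → IsPGroup 2 N → N = ⊥) :
    generalizedFittingSubgroup (Subgroup.centralizer ({P.zBar} : Set P.CBar)) = P.qBar := by
  have hQn := P.qBar_normal
  obtain ⟨e⟩ := P.quot_equiv R
  have : Fact (Nat.Prime 2) := ⟨Nat.prime_two⟩
  have hQ2 : IsPGroup 2 P.qBar := IsPGroup.of_card P.card_qBar
  have hQnil : Group.IsNilpotent P.qBar := hQ2.isNilpotent
  have hQF := Components.le_fittingSubgroup (N := P.qBar) hQn
  have htwo : ∀ N : Subgroup (Subgroup.centralizer ({P.zBar} : Set P.CBar)), N.Normal → IsPGroup 2 N →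
      N ≤ P.qBar := by
    intro N hN h2 x hx
    have hn : (N.map (e.toMonoidHom.comp (QuotientGroup.mk' P.qBar))).Normal :=
      hN.map _ (e.surjective.comp (QuotientGroup.mk'_surjective _))
    have hb := hK _ hn (h2.map _)
    have h1 : e (QuotientGroup.mk x) ∈ N.map (e.toMonoidHom.comp (QuotientGroup.mk' P.qBar)) :=
      ⟨x, hx, rfl⟩
    rw [hb, Subgroup.mem_bot, map_eq_one_iff e e.injective] at h1
    exact (QuotientGroup.eq_one_iff x).1 h1
  have hcent : ∀ x : Subgroup.centralizer ({P.zBar} : Set P.CBar),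
      (∀ a ∈ P.qBar, a * x = x * a) → x ∈ P.qBar := by
    intro y hy
    obtain ⟨x, rfl⟩ := P.eta_surjective y
    show x ∈ P.qBar.comap P.eta
    rw [P.comap_qBar R, MonoidHom.mem_ker]
    obtain ⟨a, ha⟩ := P.exists_g0 x
    rw [P.nu_eq R ha]
    refine R.triv a fun m => P.hD.coord_eq (P.hD.fixed_smul a (P.hD.fixed_comb m)) ?_
    have hmD : P.elt m ∈ P.D0 := P.mem_D0_of_mem_Q (P.elt_mem m) (P.elt_commute m).symm
    set u : P.D0 := ⟨P.elt m, hmD⟩
    have h := hy (P.eta u) ⟨u, P.elt_mem m, rfl⟩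
    rw [← map_mul, ← map_mul] at h
    have hcm : P.eta (x * u * x⁻¹) = P.eta u := by rw [map_mul, ← h, map_mul, map_inv, mul_inv_cancel_right]
    have hxu := P.eta_inj_Q (P.M.hub.normalizes x (P.D0_commute x) _ (P.elt_mem m)) (P.elt_mem m) hcm
    refine P.M.cls_of_commute (Model.rel_refl _) (h := ⟨x, x.2.1⟩) ha ?_
    exact mul_inv_eq_iff_eq_mul.1 (congrArg Subtype.val hxu)
  refine le_antisymm (sup_le ?_ ?_) (hQF.trans le_sup_right)
  · intro x hx
    refine hcent x fun a ha => ?_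
    have h := (Subgroup.commutator_eq_bot_iff_le_centralizer.1 Components.commutator_layer_fittingSubgroup) hx
    exact h a (hQF ha)
  · rw [Components.fittingSubgroup_eq_iSup_pCore]
    refine iSup_le fun p => ?_
    have : Fact (Nat.Prime (p : ℕ)) := ⟨Nat.prime_of_mem_primeFactors p.2⟩
    have hp2 := Components.isPGroup_pCore' (G := Subgroup.centralizer ({P.zBar} : Set P.CBar)) (p : ℕ)
    by_cases h : (p : ℕ) = 2
    · refine htwo _ (Components.pCore_normal' _) ?_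
      rw [h] at hp2 ⊢
      exact hp2
    · intro x hx
      exact hcent x fun a ha => PCore.commute_of_normal_of_disjoint hQn (Components.pCore_normal' _)
        (IsPGroup.disjoint_of_ne 2 (p : ℕ) (Ne.symm h) _ _ hQ2 hp2) ha hx

/-! ### Fusion -/

/-- An element of type 64 in `Q ∩ C(B)` is conjugate to `z` in `C(B)`. -/
theorem exists_conj (hex : ∃ g, g * z * g⁻¹ ∈ P.M.Q ∧ g * z * g⁻¹ ≠ z) {x : G}
    (h64 : P.M.IsType 64 x) (hxb : Commute P.b x) :
    ∃ a ∈ Subgroup.centralizer (B : Set G), a * z * a⁻¹ = x := by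
  have hxQ := h64.mem P.M
  obtain ⟨hx1, hxz⟩ := h64.not_central P.M (by norm_num)
  -- apply the fixed point argument to `z * x`
  have hzc : Commute z x := (P.M.hub.central x hxQ).symm
  set y : G := z * x with hy
  have hyQ : y ∈ P.M.Q := P.M.Q.mul_mem P.M.hub.mem hxQ
  have hy64 : P.M.IsType 64 y := by
    obtain ⟨v, hv, hvr⟩ := h64
    exact ⟨v, hv, P.M.rel_trans (Or.inr hzc.eq) hvr⟩
  obtain ⟨hyc, hyne⟩ := (P.M.conj_iff hex hyQ).2 hy64
  obtain ⟨g, hg⟩ := isConj_iff.1 hyc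
  have hgQ : g * z * g⁻¹ ∈ P.M.Q := hg ▸ hyQ
  have hgne : g * z * g⁻¹ ≠ z := hg ▸ hyne
  have hzR := P.M.z_mem_conjQ hgQ hgne
  have hubR := P.M.hubConj g
  have hby : Commute P.b (g * z * g⁻¹) := by rw [hg]; exact P.hbz.mul_right hxb
  obtain ⟨r, hr, hrz'⟩ := hubR.exists_not_commute (x := z) P.M.hub.ne_one (fun e => hgne e.symm)
  have hrz : ¬ Commute r z := fun h => hrz' (by first | exact h | exact h.symm)
  let X := {a : G // a ∈ P.M.conjQ g ∧ ¬ Commute a z}
  have hbb : ∀ k : Subgroup.zpowers P.b, Commute (k : G) z ∧ Commute (k : G) (g * z * g⁻¹) := by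
    rintro ⟨k, hk⟩
    obtain ⟨i, rfl⟩ := Subgroup.mem_zpowers_iff.1 hk
    exact ⟨P.hbz.zpow_left i, hby.zpow_left i⟩
  letI act : MulAction (Subgroup.zpowers P.b) X :=
    { smul := fun k a => ⟨(k : G) * a.1 * (k : G)⁻¹, hubR.normalizes _ (hbb k).2 _ a.2.1, fun h => a.2.2 (by
        have h1 := (((hbb k).1.inv_left).mul_left h).mul_left (hbb k).1
        simpa [mul_assoc] using h1)⟩
      one_smul := fun a => Subtype.ext (by
        show ((1 : Subgroup.zpowers P.b) : G) * a.1 * ((1 : Subgroup.zpowers P.b) : G)⁻¹ = a.1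
        simp)
      mul_smul := fun k l a => Subtype.ext (by
        show ((k * l : Subgroup.zpowers P.b) : G) * a.1 * ((k * l : Subgroup.zpowers P.b) : G)⁻¹ =
          (k : G) * ((l : G) * a.1 * (l : G)⁻¹) * (k : G)⁻¹
        rw [Subgroup.coe_mul]; group) }
  have := Fact.mk P.prime
  have : Fact (Nat.Prime 2) := ⟨Nat.prime_two⟩
  have hcomm_case : ∀ a ∈ P.M.conjQ g, a * z * a⁻¹ = z ∨ a * z * a⁻¹ = z * (g * z * g⁻¹) :=
    fun a ha => hubR.comm a ha z hzR
  have hX : ∃ k, Nat.card X = 2 ^ k := by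
    obtain ⟨k, hk⟩ := IsPGroup.iff_card.1 ((P.M.isPGroup_conjQ g).to_le
      (inf_le_left : P.M.centQ g ≤ P.M.conjQ g))
    refine ⟨k, hk ▸ Nat.card_congr ?_⟩
    refine ⟨fun a => ⟨r⁻¹ * a.1, Subgroup.mul_mem _ (Subgroup.inv_mem _ hr) a.2.1, Model.mem_C ?_⟩,
      fun a => ⟨r * a.1, Subgroup.mul_mem _ hr a.2.1, fun h => hrz ?_⟩,
      fun a => Subtype.ext (mul_inv_cancel_left _ _), fun a => Subtype.ext (inv_mul_cancel_left _ _)⟩
    · refine mul_inv_eq_iff_eq_mul.1 ?_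
      have e1 := (hcomm_case r hr).resolve_left fun e => hrz (mul_inv_eq_iff_eq_mul.1 e)
      have e2 := (hcomm_case a.1 a.2.1).resolve_left fun e => a.2.2 (mul_inv_eq_iff_eq_mul.1 e)
      calc r⁻¹ * a.1 * z * (r⁻¹ * a.1)⁻¹ = r⁻¹ * (a.1 * z * a.1⁻¹) * r := by group
        _ = r⁻¹ * (r * z * r⁻¹) * r := by rw [e1, e2]
        _ = z := by group
    · have := h.mul_left (Model.commute_of_mem_C a.2.2).inv_left
      rwa [mul_inv_cancel_right] at this
  obtain ⟨k, hk⟩ := hX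
  obtain ⟨⟨a, haR, han⟩, hfix⟩ := (IsPGroup.of_card (p := P.D.p) (n := 1)
    (by rw [Nat.card_zpowers, P.hbo, pow_one]) : IsPGroup P.D.p (Subgroup.zpowers P.b)).nonempty_fixed_point_of_prime_not_dvd_card X
    (by rw [hk]; exact fun h => P.p_ne_two ((Nat.prime_dvd_prime_iff_eq P.prime Nat.prime_two).1
      (P.prime.dvd_of_dvd_pow h)))
  refine ⟨a, P.mem_CB.2 ?_, ?_⟩
  · have := congrArg Subtype.val (hfix ⟨P.b, Subgroup.mem_zpowers _⟩)
    exact (mul_inv_eq_iff_eq_mul.1 (this : P.b * a * P.b⁻¹ = a)).symm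
  · rw [(hcomm_case a haR).resolve_left fun e => han (mul_inv_eq_iff_eq_mul.1 e), hg, hy, ← mul_assoc,
      P.M.zz, one_mul]

theorem setting (hd : ∃ w, P.D.d = 2 * w ∧ 0 < w) (hex : ∃ g, g * z * g⁻¹ ∈ P.M.Q ∧ g * z * g⁻¹ ≠ z)
    {s : G} (hs64 : P.M.IsType 64 s) (hsb : Commute P.b s)
    (hK : ∀ N : Subgroup R.K, N.Normal → IsPGroup 2 N → N = ⊥) :
    IsExtraspecialCentralizerSetting P.zBar P.qBar (P.D.d / 2) := by
  obtain ⟨w, hw, hw0⟩ := hd
  obtain ⟨hs1, hsz⟩ := hs64.not_central P.M (by norm_num)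
  refine ⟨?_, P.qBar_genFitting R (by omega) hK, P.qBar_extraspecial (by omega), ?_, ?_⟩
  · refine orderOf_eq_prime ?_ fun e => ?_
    · rw [zBar, pow_two, ← QuotientGroup.mk_mul, P.mk_eq_one]
      show z * z ∈ B
      rw [P.M.zz]; exact one_mem _
    · exact P.M.hub.ne_one (P.eq_one_of_mem_Q (P.mk_eq_one.1 e) P.M.hub.mem)
  · rw [P.card_qBar, hw, Nat.mul_div_cancel_left _ (by norm_num)]
  · obtain ⟨a, ha, haz⟩ := P.exists_conj hex hs64 hsb
    set u : P.D0 := ⟨s, P.mem_D0_of_mem_Q (hs64.mem P.M) hsb.symm⟩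
    have e : (QuotientGroup.mk ⟨a, ha⟩ : P.CBar) * P.zBar * (QuotientGroup.mk ⟨a, ha⟩)⁻¹ =
        (P.eta u : P.CBar) := by
      rw [P.conj_zBar]
      exact congrArg _ (Subtype.ext haz)
    refine ⟨QuotientGroup.mk ⟨a, ha⟩, ⟨by rw [e]; exact (P.eta u).2, ?_⟩, fun h => hsz ?_⟩
    · refine ⟨u, hs64.mem P.M, Subtype.ext e.symm⟩
    · have h' : P.eta u = P.eta ⟨z, P.z_mem_D0⟩ := Subtype.ext (e.symm.trans h)
      exact congrArg Subtype.val (P.eta_inj_Q (hs64.mem P.M) P.M.hub.mem h')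

/-- The conjugates of `z̄` in `qBar`. -/
theorem ncard_conj (hex : ∃ g, g * z * g⁻¹ ∈ P.M.Q ∧ g * z * g⁻¹ ≠ z) {S : Finset P.D.F}
    {short : P.D.F → List ℤ} (hS : P.D.TypeCert S short) :
    Set.ncard {x : Subgroup.centralizer ({P.zBar} : Set P.CBar) |
      x ∈ P.qBar ∧ IsConj P.zBar (x : P.CBar)} = 1 + 2 * S.card := by
  classical
  let T := {m : P.D.F × Bool // m.1 ∈ S}
  let zc : Subgroup.centralizer ({P.zBar} : Set P.CBar) := P.eta ⟨z, P.z_mem_D0⟩
  let f : P.D.F × Bool → Subgroup.centralizer ({P.zBar} : Set P.CBar) := fun m =>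
    P.eta ((Equiv.ofBijective _ P.qEquiv_bijective m : P.M.Q.subgroupOf P.D0) : P.D0)
  have hf : Function.Injective f := fun a b h =>
    (Equiv.ofBijective _ P.qEquiv_bijective).injective (Subtype.ext (P.eta_inj_Q
      (Equiv.ofBijective _ P.qEquiv_bijective a).2 (Equiv.ofBijective _ P.qEquiv_bijective b).2 h))
  have htype : ∀ (m : P.D.F × Bool), m.1 ∈ S →
      P.M.IsType 64 (P.elt m.1 * (if m.2 then z else 1)) := by
    rintro ⟨m, i⟩ hm
    obtain ⟨w, hw, hvw⟩ := (P.hD.coord_mem_iff hS (P.hD.fixed_comb m)).1 (by rwa [P.hD.coord_comb])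
    refine ⟨w, hw, P.M.rel_trans ?_ (P.M.L_congr.2 hvw)⟩
    cases i
    · exact Or.inl (mul_one _)
    · exact Or.inr rfl
  have hset : {x : Subgroup.centralizer ({P.zBar} : Set P.CBar) |
      x ∈ P.qBar ∧ IsConj P.zBar (x : P.CBar)} = insert zc (f '' {m | m.1 ∈ S}) := by
    ext x
    constructor
    · rintro ⟨⟨u, hu, rfl⟩, hc⟩
      obtain ⟨m, hm⟩ := (Equiv.ofBijective _ P.qEquiv_bijective).surjective ⟨u, hu⟩
      have hfm : f m = P.eta u := congrArg P.eta (congrArg Subtype.val hm)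
      have hum : (u : G) = P.elt m.1 * (if m.2 then z else 1) :=
        (congrArg (fun t : P.M.Q.subgroupOf P.D0 => ((t : P.D0) : G)) hm).symm
      obtain ⟨c, hc⟩ := isConj_iff.1 hc
      obtain ⟨⟨a, ha⟩, rfl⟩ := QuotientGroup.mk_surjective c
      rw [P.conj_zBar] at hc
      have hβ : (a * z * a⁻¹)⁻¹ * (u : G) ∈ B := Subgroup.mem_subgroupOf.1 (QuotientGroup.eq.1 hc)
      have hcb : Commute (a * z * a⁻¹) ((a * z * a⁻¹)⁻¹ * (u : G)) :=
        P.mem_B_comm (Subgroup.mul_mem _ (Subgroup.mul_mem _ ha P.z_mem_CB) (Subgroup.inv_mem _ ha)) hβ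
      have hβ1 : (a * z * a⁻¹)⁻¹ * (u : G) = 1 := by
        refine P.eq_one_of_pow_two hβ (k := 26) ?_
        have e1 : (a * z * a⁻¹) ^ 2 ^ 26 = 1 := by
          rw [conj_pow, show (2 : ℕ) ^ 26 = 2 * 2 ^ 25 from rfl, pow_mul, pow_two, P.M.zz, one_pow,
            mul_one, mul_inv_cancel]
        have e2 : (u : G) ^ 2 ^ 26 = 1 := by
          have h25 := pow_card_eq_one' (G := P.M.Q) (x := ⟨(u : G), hu⟩)
          rw [P.M.card_Q] at h25
          rw [show (2 : ℕ) ^ 26 = 2 ^ 25 * 2 from rfl, pow_mul, show (u : G) ^ 2 ^ 25 = 1 from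
            congrArg Subtype.val h25, one_pow]
        have := hcb.mul_pow (2 ^ 26)
        rw [mul_inv_cancel_left, e1, e2, one_mul] at this
        exact this.symm
      have hau : a * z * a⁻¹ = (u : G) := inv_mul_eq_one.1 hβ1
      by_cases huz : (u : G) = z
      · exact Or.inl (congrArg P.eta (Subtype.ext huz))
      · have h64 := P.M.type64_of_conj hu (isConj_iff.2 ⟨a, hau⟩) huz
        refine Or.inr ⟨m, ?_, hfm⟩
        obtain ⟨w, hw, hwr⟩ := h64
        show m.1 ∈ S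
        rw [← P.hD.coord_comb m.1, P.hD.coord_mem_iff hS (P.hD.fixed_comb _)]
        refine ⟨w, hw, P.M.L_congr.1 (P.M.rel_trans ?_ hwr)⟩
        show Rel z (P.elt m.1) (u : G)
        rw [hum]
        cases m.2
        · exact Or.inl (mul_one _).symm
        · exact P.M.rel_symm (Or.inr rfl)
    · rintro (rfl | ⟨m, hm, rfl⟩)
      · exact ⟨⟨_, P.M.hub.mem, rfl⟩, IsConj.refl _⟩
      · refine ⟨⟨_, (Equiv.ofBijective _ P.qEquiv_bijective m).2, rfl⟩, ?_⟩
        obtain ⟨a, ha, haz⟩ := P.exists_conj hex (htype m hm) (by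
          exact (P.mem_CB.1 (Equiv.ofBijective _ P.qEquiv_bijective m).1.2.2).symm)
        refine isConj_iff.2 ⟨QuotientGroup.mk ⟨a, ha⟩, ?_⟩
        rw [P.conj_zBar]
        exact congrArg _ (Subtype.ext haz)
  have hnot : zc ∉ f '' {m | m.1 ∈ S} := by
    rintro ⟨m, hm, e⟩
    have h := P.eta_inj_Q (Equiv.ofBijective _ P.qEquiv_bijective m).2 P.M.hub.mem
      (y := ⟨z, P.z_mem_D0⟩) e
    exact ((htype m hm).not_central P.M (by norm_num)).2 (congrArg Subtype.val h)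
  rw [hset, Set.ncard_insert_of_notMem hnot, Set.ncard_image_of_injective _ hf, add_comm]
  congr 1
  rw [show {m : P.D.F × Bool | m.1 ∈ S} = ↑(S ×ˢ (Finset.univ : Finset Bool)) by ext; simp,
    Set.ncard_coe_finset, Finset.card_product, Finset.card_univ, Fintype.card_bool, mul_comm]

end OddPos

end Cfsg.Agent.MonsterType
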