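/-
The layer of `C(B)` contains `z`: every nontrivial normal subgroup of `C(B)/B` contains `z̄`, and
`C(B)/B` has no nontrivial nilpotent normal subgroup.
-/
import Cfsg.Agent.Lib.MonsterType.OddCent.Bar

set_option autoImplicit false
set_option linter.unusedSectionVars false

namespace Cfsg.Agent.MonsterType

open Cfsg Cfsg.Agent.Leech Cfsg.Agent.Leech.Fixed

variable {G : Type*} [Group G] [Finite G] {z : G}

namespace OddPos

variable {B : Subgroup G} (P : OddPos z B)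
  [(B.subgroupOf (Subgroup.centralizer (B : Set G))).Normal]
  {n : ℕ} (R : P.Quo n) (hd : 0 < P.D.d)
  (hK : ∀ N : Subgroup R.K, N.Normal → IsPGroup 2 N → N = ⊥)
  (hex : ∃ g, g * z * g⁻¹ ∈ P.M.Q ∧ g * z * g⁻¹ ≠ z)

include R hd hK hex

/-- The class in `C(B)/B` of an element of `Q ∩ C(B)`. -/
theorem conj_mem_of_normal (N : Subgroup P.CBar) [hN : N.Normal] (hz : P.zBar ∈ N) {x : G}
    (h64 : P.M.IsType 64 x) (hxb : Commute P.b x) (hx : x ∈ Subgroup.centralizer (B : Set G)) :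
    (QuotientGroup.mk ⟨x, hx⟩ : P.CBar) ∈ N := by
  obtain ⟨a, ha, haz⟩ := P.exists_conj hex h64 hxb
  have h := hN.conj_mem _ hz (QuotientGroup.mk ⟨a, ha⟩)
  rw [P.conj_zBar] at h
  rwa [show (⟨x, hx⟩ : Subgroup.centralizer (B : Set G)) = ⟨a, ha⟩ * ⟨z, P.z_mem_CB⟩ * ⟨a, ha⟩⁻¹ from
    Subtype.ext haz.symm]

/-- A normal subgroup of `C(B)/B` meeting `C(z̄)` trivially is inverted by `z̄`. -/
theorem inverted (N : Subgroup P.CBar) [hN : N.Normal]
    (h : ∀ y ∈ N, P.zBar * y = y * P.zBar → y = 1) {y : P.CBar} (hy : y ∈ N) :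
    P.zBar * y * P.zBar⁻¹ = y⁻¹ := by
  have hzz : P.zBar * P.zBar = 1 := by
    rw [zBar, ← QuotientGroup.mk_mul, P.mk_eq_one]
    show z * z ∈ B
    rw [P.M.zz]; exact one_mem _
  let φ : N →* N := MonoidHom.mk' (fun a => ⟨P.zBar * a * P.zBar⁻¹, hN.conj_mem _ a.2 _⟩)
    fun a b => Subtype.ext (by simp [mul_assoc])
  have hfix : MonoidHom.FixedPointFree φ := fun a ha => Subtype.ext (h a a.2 (mul_inv_eq_iff_eq_mul.1
    (congrArg Subtype.val ha)))
  have hinv : Function.Involutive φ := fun a => Subtype.ext (by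
    show P.zBar * (P.zBar * a * P.zBar⁻¹) * P.zBar⁻¹ = a
    calc P.zBar * (P.zBar * a * P.zBar⁻¹) * P.zBar⁻¹ = (P.zBar * P.zBar) * a * (P.zBar * P.zBar)⁻¹ := by group
      _ = a := by rw [hzz, one_mul, inv_one, mul_one])
  exact congrArg Subtype.val (congrFun (hfix.coe_eq_inv_of_involutive hinv) ⟨y, hy⟩)

/-- Every nontrivial normal subgroup of `C(B)/B` contains `z̄`. -/
theorem zBar_mem_of_normal {s : G} (hs64 : P.M.IsType 64 s) (hsb : Commute P.b s)
    (N : Subgroup P.CBar) [hN : N.Normal] (hne : N ≠ ⊥) : P.zBar ∈ N := by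
  by_contra hz
  have hQn := P.qBar_normal
  have : Fact (Nat.Prime 2) := ⟨Nat.prime_two⟩
  set C := Subgroup.centralizer ({P.zBar} : Set P.CBar) with hC
  set N' : Subgroup C := N.subgroupOf C with hN'
  have hN'n : N'.Normal := hN.comap _
  have hdisj : N'.subgroupOf P.qBar = ⊥ := by
    by_contra h
    have hn : (N'.subgroupOf P.qBar).Normal := hN'n.comap _
    have := PGroup.inf_center_ne_bot (IsPGroup.of_card P.card_qBar) (N'.subgroupOf P.qBar) h
    obtain ⟨⟨a, ha⟩, hane⟩ := Subgroup.ne_bot_iff_exists_ne_one.1 this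
    rcases P.mem_center_qBar.1 ha.2 with e | e
    · exact hane (Subtype.ext e)
    · subst e
      exact hz ha.1
  have hfpf : ∀ y ∈ N, P.zBar * y = y * P.zBar → y = 1 := by
    intro y hy hc
    have hyC : y ∈ C := Subgroup.mem_centralizer_singleton_iff.2 hc.symm
    have hF : (⟨y, hyC⟩ : C) ∈ P.qBar := by
      rw [← P.qBar_genFitting R hd hK]
      refine Components.centralizer_generalizedFittingSubgroup_le (Subgroup.mem_centralizer_iff.2 ?_)
      intro a ha
      rw [P.qBar_genFitting R hd hK] at ha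
      refine PCore.commute_of_normal_of_disjoint hQn hN'n (Subgroup.disjoint_def.2 fun {q} hq hqN => ?_)
        ha (show (⟨y, hyC⟩ : C) ∈ N' from hy)
      have : (⟨q, hq⟩ : P.qBar) ∈ N'.subgroupOf P.qBar := hqN
      rw [hdisj, Subgroup.mem_bot] at this
      exact congrArg Subtype.val this
    have : (⟨⟨y, hyC⟩, hF⟩ : P.qBar) ∈ N'.subgroupOf P.qBar := hy
    rw [hdisj, Subgroup.mem_bot] at this
    exact congrArg (fun t : P.qBar => ((t : C) : P.CBar)) this
  have hinv := fun y hy => P.inverted R hd hK hex N hfpf (y := y) hy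
  obtain ⟨a, ha, haz⟩ := P.exists_conj hex hs64 hsb
  have hzc : Commute z s := (P.M.hub.central s (hs64.mem P.M)).symm
  have hzs64 : P.M.IsType 64 (z * s) := by
    obtain ⟨v, hv, hvr⟩ := hs64
    exact ⟨v, hv, P.M.rel_trans (Or.inr hzc.eq) hvr⟩
  obtain ⟨a', ha', haz'⟩ := P.exists_conj hex hzs64 (P.hbz.mul_right hsb)
  set u : P.CBar := QuotientGroup.mk ⟨a, ha⟩ with hu
  set u' : P.CBar := QuotientGroup.mk ⟨a', ha'⟩ with hu'
  have key : ∀ c : P.CBar, ∀ y ∈ N, (c * P.zBar * c⁻¹) * y * (c * P.zBar * c⁻¹)⁻¹ = y⁻¹ := by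
    intro c y hy
    have hy' : c⁻¹ * y * c ∈ N := by simpa using hN.conj_mem _ hy c⁻¹
    calc c * P.zBar * c⁻¹ * y * (c * P.zBar * c⁻¹)⁻¹
        = c * (P.zBar * (c⁻¹ * y * c) * P.zBar⁻¹) * c⁻¹ := by group
      _ = c * (c⁻¹ * y * c)⁻¹ * c⁻¹ := by rw [hinv _ hy']
      _ = y⁻¹ := by group
  have hprod : u' * P.zBar * u'⁻¹ = P.zBar * (u * P.zBar * u⁻¹) := by
    rw [hu, hu', P.conj_zBar, P.conj_zBar, zBar, ← QuotientGroup.mk_mul]
    refine congrArg _ (Subtype.ext ?_)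
    show a' * z * a'⁻¹ = z * (a * z * a⁻¹)
    rw [haz, haz']
  obtain ⟨⟨y, hy⟩, hyne⟩ := Subgroup.ne_bot_iff_exists_ne_one.1 hne
  have h1 := key u' y hy
  rw [hprod] at h1
  have h2 : y⁻¹ = y := by
    rw [← h1, show P.zBar * (u * P.zBar * u⁻¹) * y * (P.zBar * (u * P.zBar * u⁻¹))⁻¹ =
      P.zBar * ((u * P.zBar * u⁻¹) * y * (u * P.zBar * u⁻¹)⁻¹) * P.zBar⁻¹ by group, key u y hy,
      hinv _ (N.inv_mem hy), inv_inv]
  have h3 := hinv y hy
  rw [h2] at h3
  exact hyne (Subtype.ext (hfpf y hy (mul_inv_eq_iff_eq_mul.1 h3)))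

/-- `C(B)/B` has trivial Fitting subgroup. -/
theorem eq_bot_of_nilpotent {s : G} (hs64 : P.M.IsType 64 s) (hsb : Commute P.b s)
    {x y : G} (hx : P.M.IsType 64 x) (hxb : Commute P.b x) (hy : P.M.IsType 64 y)
    (hyb : Commute P.b y) (hxy : ¬ Commute x y)
    (N : Subgroup P.CBar) [hN : N.Normal] [Group.IsNilpotent N] : N = ⊥ := by
  by_contra hne
  have := (Subgroup.nontrivial_iff_ne_bot N).2 hne
  set Z : Subgroup P.CBar := (Subgroup.center N).map N.subtype with hZ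
  have hZn : Z.Normal := inferInstance
  have hZne : Z ≠ ⊥ := by
    rw [hZ, Ne, Subgroup.map_eq_bot_iff_of_injective _ (Subgroup.subtype_injective _)]
    exact Group.IsNilpotent.center_ne_bot N
  have hz := P.zBar_mem_of_normal R hd hK hex hs64 hsb Z hZne
  have hxC := P.mem_CB.2 hxb.symm
  have hyC := P.mem_CB.2 hyb.symm
  obtain ⟨c, hc, hcx⟩ := P.conj_mem_of_normal R hd hK hex Z hz hx hxb hxC
  obtain ⟨c', hc', hcy⟩ := P.conj_mem_of_normal R hd hK hex Z hz hy hyb hyC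
  have h : (QuotientGroup.mk ⟨x, hxC⟩ : P.CBar) * QuotientGroup.mk ⟨y, hyC⟩ =
      QuotientGroup.mk ⟨y, hyC⟩ * QuotientGroup.mk ⟨x, hxC⟩ := by
    rw [← hcx, ← hcy, ← map_mul, ← map_mul, Subgroup.mem_center_iff.1 hc c']
  rw [← QuotientGroup.mk_mul, ← QuotientGroup.mk_mul, eq_comm, ← inv_mul_eq_one,
    ← QuotientGroup.mk_inv, ← QuotientGroup.mk_mul, P.mk_eq_one] at h
  change (y * x)⁻¹ * (x * y) ∈ B at h
  have hQ : (y * x)⁻¹ * (x * y) ∈ P.M.Q := P.M.Q.mul_mem
    (P.M.Q.inv_mem (P.M.Q.mul_mem (hy.mem P.M) (hx.mem P.M))) (P.M.Q.mul_mem (hx.mem P.M) (hy.mem P.M))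
  exact hxy (inv_mul_eq_one.1 (P.eq_one_of_mem_Q h hQ)).symm

/-- The layer of `C(B)` contains `z`. -/
theorem z_mem_layer {s : G} (hs64 : P.M.IsType 64 s) (hsb : Commute P.b s)
    {x y : G} (hx : P.M.IsType 64 x) (hxb : Commute P.b x) (hy : P.M.IsType 64 y)
    (hyb : Commute P.b y) (hxy : ¬ Commute x y) :
    (⟨z, P.z_mem_CB⟩ : Subgroup.centralizer (B : Set G)) ∈
      layer (Subgroup.centralizer (B : Set G)) := by
  set C := Subgroup.centralizer (B : Set G) with hC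
  set π : C →* P.CBar := QuotientGroup.mk' _ with hπ
  have hπs : Function.Surjective π := QuotientGroup.mk'_surjective _
  have hzB : z ∉ B := fun h => P.M.hub.ne_one (P.eq_one_of_mem_Q h P.M.hub.mem)
  have hFn : Group.IsNilpotent (fittingSubgroup C) := by
    rw [Components.fittingSubgroup_eq_iSup_pCore]
    exact Components.isNilpotent_iSup_pCore
  have hFmap : (fittingSubgroup C).map π = ⊥ := by
    have : ((fittingSubgroup C).map π).Normal := (Components.fittingSubgroup_normal C).map _ hπs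
    have : Group.IsNilpotent ((fittingSubgroup C).map π) :=
      Group.nilpotent_of_surjective _ (MonoidHom.subgroupMap_surjective π (fittingSubgroup C))
    exact P.eq_bot_of_nilpotent R hd hK hex hs64 hsb hx hxb hy hyb hxy _
  have hFB : ∀ a ∈ fittingSubgroup C, (a : G) ∈ B := fun a ha => P.mk_eq_one.1 (by
    have : π a ∈ (fittingSubgroup C).map π := ⟨a, ha, rfl⟩
    rwa [hFmap, Subgroup.mem_bot] at this)
  have hLmap : (layer C).map π ≠ ⊥ := by
    intro h
    have hGF : ∀ a ∈ generalizedFittingSubgroup C, (a : G) ∈ B := by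
      intro a ha
      refine P.mk_eq_one.1 ?_
      have : π a ∈ (generalizedFittingSubgroup C).map π := ⟨a, ha, rfl⟩
      rw [generalizedFittingSubgroup, Subgroup.map_sup, h, hFmap, bot_sup_eq, Subgroup.mem_bot] at this
      exact this
    have hzm : (⟨z, P.z_mem_CB⟩ : C) ∈ Subgroup.centralizer (generalizedFittingSubgroup C : Set C) :=
      Subgroup.mem_centralizer_iff.2 fun a ha =>
        Subtype.ext (P.mem_B_comm P.z_mem_CB (hGF a ha)).eq.symm
    exact hzB (hGF _ (Components.centralizer_generalizedFittingSubgroup_le hzm))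
  have hLn : ((layer C).map π).Normal :=
    (Subgroup.normal_of_characteristic (layer C)).map _ hπs
  obtain ⟨l, hl, hlz⟩ := P.zBar_mem_of_normal R hd hK hex hs64 hsb _ hLmap
  have hβ : (l : G)⁻¹ * z ∈ B := Subgroup.mem_subgroupOf.1 (QuotientGroup.eq.1 hlz)
  have hc : Commute z ((l : G)⁻¹ * z) := P.mem_B_comm P.z_mem_CB hβ
  have hlG : (l : G) = z * ((l : G)⁻¹ * z)⁻¹ := by group
  have hp : ((l : G)) ^ P.D.p = z := by
    rw [hlG, hc.inv_right.mul_pow, inv_pow, P.mem_B_pow hβ, inv_one, mul_one]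
    obtain ⟨q, hq⟩ := P.hD.odd
    rw [hq, pow_succ, pow_mul, pow_two, P.M.zz, one_pow, one_mul]
  have := (layer C).pow_mem hl P.D.p
  rwa [show l ^ P.D.p = ⟨z, P.z_mem_CB⟩ from Subtype.ext hp] at this

end OddPos

end Cfsg.Agent.MonsterType
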