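/-
Elements of `C(z)` inducing given automorphisms on a subgroup of odd prime order in standard
position, an inverting involution, and the criterion for it to be outer on the layer of `C(B)`.
-/
import Cfsg.Agent.Lib.MonsterType.OddCent.Layer
import Cfsg.Agent.Lib.Leech.Fixed.Cent
import Cfsg.Agent.Lib.Components.Layer

set_option autoImplicit false
set_option linter.unusedSectionVars false

namespace Cfsg.Agent.MonsterType

open Cfsg Cfsg.Agent.Leech Cfsg.Agent.Leech.Fixed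

variable {G : Type*} [Group G] [Finite G] {z : G}

theorem mem_normalizer_zpowers {x b : G} {k : ℕ} (h : x * b * x⁻¹ = b ^ k) :
    x ∈ Subgroup.normalizer (Subgroup.zpowers b : Set G) := by
  have he : (Subgroup.zpowers b).map (MulAut.conj x).toMonoidHom = Subgroup.zpowers b := by
    refine Subgroup.eq_of_le_of_card_ge ?_
      (le_of_eq (Subgroup.card_map_of_injective (MulAut.conj x).injective).symm)
    rw [MonoidHom.map_zpowers]
    show Subgroup.zpowers (x * b * x⁻¹) ≤ _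
    rw [h]
    exact Subgroup.zpowers_le.2 (pow_mem (Subgroup.mem_zpowers b) k)
  rw [Subgroup.mem_normalizer_iff]
  intro y
  conv_rhs => rw [← he]
  constructor
  · exact fun hy => ⟨y, hy, rfl⟩
  · rintro ⟨y', hy', e⟩
    rwa [show y = y' from ((MulAut.conj x).injective e).symm]

theorem model_ker_two (M : Model z) : IsPGroup 2 M.π.ker :=
  (IsPGroup.of_card (p := 2) (n := 25) M.card_Q).of_injective
    (MonoidHom.mk' (fun a => (⟨((a.1 : Subgroup.centralizer ({z} : Set G)) : G),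
      (M.π_ker a.1).1 a.2⟩ : M.Q)) fun a b => rfl) fun a b e =>
    Subtype.ext (Subtype.ext (congrArg (fun t : M.Q => (t : G)) e))

/-- An involution of `C_{Q^g}(z)` over a given sign change. -/
theorem exists_involution_over (M : Model z) {g : G} (hne : g * z * g⁻¹ ≠ z)
    (hv : Rel z (g * z * g⁻¹) (M.L (eight none))) {ε : Co0} (hε : ε ∈ signGrp)
    (hεne : toCo1 ε ≠ 1) :
    ∃ a : Subgroup.centralizer ({z} : Set G), M.π a = toCo1 ε ∧ (a : G) * a = 1 := by
  set s := g * z * g⁻¹ with hs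
  have hmem : toCo1 ε ∈ M.imgQ g := (M.std_pair hne hv).1 ▸ ⟨ε, hε, rfl⟩
  obtain ⟨a, ha, hae⟩ := hmem
  have haR : (a : G) ∈ M.conjQ g := ha.1
  have hubR := M.hubConj g
  rcases hubR.sq_cases (a : G) haR with e | e
  · exact ⟨a, hae, e⟩
  by_cases hall : ∀ q ∈ M.interQ g, Commute (a : G) q
  · exfalso
    set E : Subgroup G := Subgroup.closure (insert (a : G) (M.interQ g : Set G)) with hE
    have hER : E ≤ M.conjQ g := (Subgroup.closure_le _).2 (Set.insert_subset haR fun q hq => hq.2)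
    have hEc : IsMulCommutative E := Subgroup.isMulCommutative_closure (by
      intro p hp q hq
      rcases Set.mem_insert_iff.1 hp with rfl | hp <;> rcases Set.mem_insert_iff.1 hq with rfl | hq
      · rfl
      · exact (hall q hq).eq
      · exact (hall p hp).eq.symm
      · exact congrArg Subtype.val ((M.interQ_comm hne).is_comm.comm ⟨p, hp⟩ ⟨q, hq⟩))
    set A : Subgroup G := E.map (MulAut.conj g⁻¹).toMonoidHom with hA
    have hAQ : A ≤ M.Q := by
      rintro _ ⟨p, hp, rfl⟩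
      obtain ⟨q, hq, rfl⟩ := hER hp
      simpa [mul_assoc] using hq
    have hAc : IsMulCommutative A := by
      refine ⟨⟨fun p q => Subtype.ext ?_⟩⟩
      obtain ⟨p', hp', hpe⟩ := p.2
      obtain ⟨q', hq', hqe⟩ := q.2
      show (p : G) * q = q * p
      rw [← hpe, ← hqe, ← map_mul, ← map_mul]
      exact congrArg _ (congrArg Subtype.val (hEc.is_comm.comm ⟨p', hp'⟩ ⟨q', hq'⟩))
    have h1 := M.abelian_le A hAQ hAc
    rw [hA, Subgroup.card_map_of_injective (MulAut.conj g⁻¹).injective] at h1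
    have hle : M.interQ g ≤ E := fun q hq => Subgroup.subset_closure (Or.inr hq)
    have h2 := Subgroup.eq_of_le_of_card_ge hle (by rw [(M.std_pair hne hv).2.2]; exact h1)
    have haQ : (a : G) ∈ M.Q := (h2.ge (Subgroup.subset_closure (Set.mem_insert _ _))).1
    exact hεne (hae.symm.trans ((M.π_ker a).2 haQ))
  · push Not at hall
    obtain ⟨q, hq, haq⟩ := hall
    have hq2 : q * q = 1 := by
      rcases M.hub.sq_cases q hq.1 with e1 | e1
      · exact e1
      rcases hubR.sq_cases q hq.2 with e2 | e2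
      · exact e2
      · exact absurd (e2.symm.trans e1) hne
    have hc : (a : G) * q * (a : G)⁻¹ = q * s :=
      (hubR.comm a haR q hq.2).resolve_left fun e' => haq (mul_inv_eq_iff_eq_mul.1 e')
    have hss : s * s = 1 := hubR.sq
    have hqs : Commute s q := hubR.central q hq.2 |>.symm
    refine ⟨a * ⟨q, M.Q_le_C hq.1⟩, by rw [map_mul, (M.π_ker ⟨q, M.Q_le_C hq.1⟩).2 hq.1, mul_one]; exact hae, ?_⟩
    show (a : G) * q * ((a : G) * q) = 1
    have e' : (a : G) * a = s := e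
    calc (a : G) * q * ((a : G) * q) = ((a : G) * q * (a : G)⁻¹) * ((a : G) * a) * q := by group
      _ = q * (s * s) * q := by rw [hc, e']; group
      _ = 1 := by rw [hss, mul_one, hq2]

namespace OddPos

variable {B : Subgroup G} (P : OddPos z B)

include P

theorem π_b_ne : P.M.π ⟨P.b, Model.mem_C P.hbz⟩ ≠ 1 := fun h => by
  have hb : P.b ∈ B := P.hB.le (Subgroup.mem_zpowers P.b)
  have := P.eq_one_of_mem_Q hb ((P.M.π_ker _).1 h)
  rw [← orderOf_eq_one_iff, P.hbo] at this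
  exact P.prime.ne_one this

/-- A lift inducing a given power map on `b`. -/
theorem exists_powering {k : ℕ} (hk : ¬ P.D.p ∣ k) {a : Co0}
    (ha : a * P.hD.g * a⁻¹ = P.hD.g ^ k) :
    ∃ x : G, x * P.b * x⁻¹ = P.b ^ k := by
  have := Fact.mk P.prime
  set c0 : Subgroup.centralizer ({z} : Set G) := ⟨P.b, Model.mem_C P.hbz⟩ with hc0
  obtain ⟨h, hh⟩ := P.M.π_surj (toCo1 a)
  have h0 : orderOf c0 = P.D.p := by rw [Subgroup.orderOf_mk, P.hbo]
  have h1 : orderOf (h * c0 * h⁻¹) = P.D.p :=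
    (orderOf_injective (MulAut.conj h).toMonoidHom (MulAut.conj h).injective c0).trans h0
  have h2 : orderOf (c0 ^ k) = P.D.p := by
    rw [Nat.Coprime.orderOf_pow (by rw [h0]; exact P.prime.coprime_iff_not_dvd.2 hk), h0]
  obtain ⟨c, -, hc⟩ := exists_conj_eq P.M.π (model_ker_two P.M) P.p_ne_two h1 h2 (by
    rw [map_mul, map_mul, map_inv, map_pow, hh, hc0, P.hπ, ← map_inv, ← map_mul, ← map_mul, ha, map_pow])
  refine ⟨(c : G) * h, ?_⟩
  have := congrArg Subtype.val hc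
  simp only [Subgroup.coe_mul, Subgroup.coe_inv, SubgroupClass.coe_pow] at this
  rw [← this, hc0]
  group

/-- An involution inverting `b`. -/
theorem exists_inverting (hp : P.D.p = 7)
    (hex : ∃ g, g * z * g⁻¹ ∈ P.M.Q ∧ g * z * g⁻¹ ≠ z) {m ε : Co0} (hε : ε ∈ signGrp)
    (hk : m * ε * m⁻¹ * P.hD.g = P.hD.g⁻¹ * (m * ε * m⁻¹)) :
    ∃ t : G, orderOf t = 2 ∧ Commute t z ∧ t * P.b * t⁻¹ = P.b⁻¹ := by
  have := Fact.mk P.prime
  set c0 : Subgroup.centralizer ({z} : Set G) := ⟨P.b, Model.mem_C P.hbz⟩ with hc0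
  have h0 : orderOf c0 = P.D.p := by rw [Subgroup.orderOf_mk, P.hbo]
  set gb : Spor.Co1 := P.M.π c0 with hgb
  have hgb7 : gb ^ 7 = 1 := by rw [hgb, ← map_pow, ← hp, ← h0, pow_orderOf_eq_one, map_one]
  have hgbg : gb = toCo1 P.hD.g := P.hπ
  have hgbne : gb ≠ 1 := P.π_b_ne
  set kb : Spor.Co1 := toCo1 (m * ε * m⁻¹) with hkb
  have hkg : kb * gb = gb⁻¹ * kb := by
    rw [hgbg, hkb, ← map_inv, ← map_mul, ← map_mul]
    exact congrArg toCo1 hk
  have hεne : toCo1 ε ≠ 1 := by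
    intro h
    apply hgbne
    have : kb = 1 := by rw [hkb, map_mul, map_mul, h, mul_one, map_inv, mul_inv_cancel]
    rw [this, one_mul, mul_one] at hkg
    have h2 : gb ^ 2 = 1 := by rw [pow_two]; exact mul_eq_one_iff_eq_inv.2 hkg
    simpa using pow_gcd_eq_one.2 ⟨h2, hgb7⟩
  have h8 : P.M.IsType 64 (P.M.L (eight none)) := ⟨eight none, sqNorm_eight none, Model.rel_refl _⟩
  obtain ⟨hsc, hsne⟩ := (P.M.conj_iff hex (P.M.L_mem _)).2 h8
  obtain ⟨g, hg⟩ := isConj_iff.1 hsc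
  obtain ⟨a, hae, haa⟩ := exists_involution_over P.M (g := g) (hg ▸ hsne)
    (hg.symm ▸ Model.rel_refl _) hε hεne
  obtain ⟨h, hh⟩ := P.M.π_surj (toCo1 m)
  have haa' : a * a = 1 := Subtype.ext haa
  obtain ⟨t0, ht0t, hπt⟩ : ∃ t0, t0 * t0 = 1 ∧ P.M.π t0 = kb := ⟨h * a * h⁻¹, by
    calc h * a * h⁻¹ * (h * a * h⁻¹) = h * (a * a) * h⁻¹ := by group
      _ = 1 := by rw [haa', mul_one, mul_inv_cancel],
    by rw [map_mul, map_mul, map_inv, hh, hae, hkb, map_mul, map_mul, map_inv]⟩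
  set d := t0 * (c0 * t0 * c0⁻¹) with hd
  have hu : (c0 * t0 * c0⁻¹) * (c0 * t0 * c0⁻¹) = 1 := by
    calc (c0 * t0 * c0⁻¹) * (c0 * t0 * c0⁻¹) = c0 * (t0 * t0) * c0⁻¹ := by group
      _ = 1 := by rw [ht0t, mul_one, mul_inv_cancel]
  have hti : t0⁻¹ = t0 := inv_eq_of_mul_eq_one_right ht0t
  have hdinv : t0 * d * t0⁻¹ = d⁻¹ := by
    rw [hd, mul_inv_rev, inv_eq_of_mul_eq_one_right hu, hti]
    calc t0 * (t0 * (c0 * t0 * c0⁻¹)) * t0 = (t0 * t0) * (c0 * t0 * c0⁻¹) * t0 := by group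
      _ = _ := by rw [ht0t, one_mul]
  have hπd : P.M.π d = (gb ^ 2)⁻¹ := by
    rw [hd, map_mul, map_mul, map_mul, map_inv, hπt, ← hgb]
    have h2 : kb * gb⁻¹ = gb * kb := by
      calc kb * gb⁻¹ = gb * (gb⁻¹ * kb) * gb⁻¹ := by group
        _ = _ := by rw [← hkg]; group
    have hkk : kb * kb = 1 := by rw [← hπt, ← map_mul, ht0t, map_one]
    calc kb * (gb * kb * gb⁻¹) = gb⁻¹ * (kb * kb) * gb⁻¹ := by
          rw [← mul_assoc, ← mul_assoc, hkg]; group
      _ = (gb ^ 2)⁻¹ := by rw [hkk]; group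
  set e := d ^ (5 * 2 ^ 25) with he
  have hπe : P.M.π e = gb := by
    rw [he, map_pow, hπd, inv_pow, ← pow_mul, inv_eq_iff_mul_eq_one, ← pow_succ]
    exact orderOf_dvd_iff_pow_eq_one.1 ((orderOf_dvd_of_pow_eq_one hgb7).trans (by norm_num))
  have he7 : e ^ 7 = 1 := by
    have hk7 : d ^ 7 ∈ P.M.π.ker := by
      rw [MonoidHom.mem_ker, map_pow, hπd, inv_pow, ← pow_mul, mul_comm, pow_mul, hgb7, one_pow, inv_one]
    have h25 := pow_card_eq_one' (G := P.M.Q) (x := ⟨((d ^ 7 : Subgroup.centralizer ({z} : Set G)) : G),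
      (P.M.π_ker _).1 hk7⟩)
    rw [P.M.card_Q] at h25
    have h25' : (d ^ 7) ^ 2 ^ 25 = 1 := Subtype.ext (by simpa using congrArg Subtype.val h25)
    rw [he, ← pow_mul, show 5 * 2 ^ 25 * 7 = 7 * 2 ^ 25 * 5 by ring, pow_mul, pow_mul, h25', one_pow]
  have heo : orderOf e = P.D.p := by
    rw [hp]
    have := Fact.mk (show Nat.Prime 7 by norm_num)
    exact orderOf_eq_prime he7 fun h' => hgbne (by rw [← hπe, h', map_one])
  obtain ⟨c, hck, hc⟩ := exists_conj_eq P.M.π (model_ker_two P.M) P.p_ne_two heo h0 hπe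
  set t := c * t0 * c⁻¹ with ht
  have htt : t * t = 1 := by
    calc t * t = c * (t0 * t0) * c⁻¹ := by rw [ht]; group
      _ = 1 := by rw [ht0t, mul_one, mul_inv_cancel]
  have htb : t * c0 * t⁻¹ = c0⁻¹ := by
    rw [ht, ← hc, he]
    calc c * t0 * c⁻¹ * (c * d ^ (5 * 2 ^ 25) * c⁻¹) * (c * t0 * c⁻¹)⁻¹
        = c * (t0 * d ^ (5 * 2 ^ 25) * t0⁻¹) * c⁻¹ := by group
      _ = _ := by rw [← conj_pow, hdinv, inv_pow]; group
  refine ⟨t, ?_, Model.commute_of_mem_C t.2, congrArg Subtype.val htb⟩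
  refine orderOf_eq_prime (by rw [pow_two]; exact congrArg Subtype.val htt) fun h' => hgbne ?_
  have : P.M.π c0 = (P.M.π c0)⁻¹ := by
    rw [← map_inv, ← htb, show t = 1 from Subtype.ext h']
    group
  have h2 : gb ^ 2 = 1 := by rw [pow_two]; exact mul_eq_one_iff_eq_inv.2 this
  simpa using pow_gcd_eq_one.2 ⟨h2, hgb7⟩

/-- An element inverting `b` does not act on the layer of `C(B)` as an element of it, if the layer
contains `z` and no element of M24 inverts `σ`. -/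
theorem not_inner [(B.subgroupOf (Subgroup.centralizer (B : Set G))).Normal]
    (hex : ∃ g, g * z * g⁻¹ ∈ P.M.Q ∧ g * z * g⁻¹ ≠ z)
    (hno : ∀ τ : M24, τ * P.hD.σ ≠ P.hD.σ⁻¹ * τ)
    (hz : (⟨z, P.z_mem_CB⟩ : Subgroup.centralizer (B : Set G)) ∈
      layer (Subgroup.centralizer (B : Set G)))
    {t : G} (htb : t * P.b * t⁻¹ = P.b⁻¹) {l : Subgroup.centralizer (B : Set G)}
    (hl : ∀ x ∈ (layer (Subgroup.centralizer (B : Set G))).map
      (Subgroup.centralizer (B : Set G)).subtype, t * x * t⁻¹ = (l : G) * x * (l : G)⁻¹) : False := by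
  set c := (l : G)⁻¹ * t with hc
  have hcomm : ∀ x ∈ (layer (Subgroup.centralizer (B : Set G))).map
      (Subgroup.centralizer (B : Set G)).subtype, Commute c x := fun x hx => by
    refine mul_inv_eq_iff_eq_mul.1 ?_
    calc (l : G)⁻¹ * t * x * ((l : G)⁻¹ * t)⁻¹ = (l : G)⁻¹ * (t * x * t⁻¹) * (l : G) := by group
      _ = x := by rw [hl x hx]; group
  have hcz : Commute c z := hcomm z ⟨_, hz, rfl⟩
  set x := P.M.L (eight none) with hx
  have hxb : Commute P.b x := P.commute_of_fixed (Model.rel_refl _) P.hD.fixed_eight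
  obtain ⟨a, ha, haz⟩ := P.exists_conj hex ⟨eight none, sqNorm_eight none, Model.rel_refl _⟩ hxb
  have hLn : (layer (Subgroup.centralizer (B : Set G))).Normal :=
    Subgroup.normal_of_characteristic _
  have hcx : Commute c x := hcomm x ⟨_, hLn.conj_mem _ hz ⟨a, ha⟩, haz⟩
  have hcb : c * P.b * c⁻¹ = P.b⁻¹ := by
    have hlb : (l : G)⁻¹ * P.b⁻¹ * (l : G) = P.b⁻¹ := by
      rw [mul_assoc, ((P.mem_CB.1 l.2).symm.inv_left).eq, inv_mul_cancel_left]
    calc (l : G)⁻¹ * t * P.b * ((l : G)⁻¹ * t)⁻¹ = (l : G)⁻¹ * (t * P.b * t⁻¹) * (l : G) := by group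
      _ = _ := by rw [htb, hlb]
  set cC : Subgroup.centralizer ({z} : Set G) := ⟨c, Model.mem_C hcz⟩
  set bC : Subgroup.centralizer ({z} : Set G) := ⟨P.b, Model.mem_C P.hbz⟩ with hbC
  obtain ⟨k, hk⟩ := QuotientGroup.mk_surjective (P.M.π cC)
  have h1 : toCo1 (k * P.hD.g * k⁻¹) = toCo1 P.hD.g⁻¹ := by
    rw [map_mul, map_mul, map_inv, map_inv, ← P.hπ, show toCo1 k = P.M.π cC from hk, ← map_inv,
      ← map_inv, ← map_mul, ← map_mul]
    exact congrArg _ (Subtype.ext hcb)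
  have h2 : k * P.hD.g = P.hD.g⁻¹ * k := by
    rcases eq_or_neg_of_toCo1 h1.symm with e | e
    · exact mul_inv_eq_iff_eq_mul.1 e
    exfalso
    have h7 : (k * P.hD.g * k⁻¹) ^ P.D.p = 1 := by
      rw [conj_pow, ← P.hD.orderOf_g, pow_orderOf_eq_one, mul_one, mul_inv_cancel]
    have hcn : Commute negElt P.hD.g⁻¹ := (Subgroup.mem_center_iff.1 negElt_mem_center _).symm
    rw [e, hcn.mul_pow, inv_pow, ← P.hD.orderOf_g, pow_orderOf_eq_one, inv_one, mul_one,
      P.hD.orderOf_g] at h7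
    obtain ⟨q, hq⟩ := P.hD.odd
    rw [hq, pow_succ, pow_mul, negElt_pow_two, one_pow, one_mul] at h7
    exact negElt_ne_one h7
  have h3 := P.M.cls_of_commute (Model.rel_refl _) (h := cC) hk hcx
  refine P.hD.coord_ne_of_inverter hno h2 (m := P.hD.coord (eight none))
    (h3.trans (P.hD.coord_spec P.hD.fixed_eight)) 1 ?_
  rw [OneMemClass.coe_one, one_smul]

end OddPos

end Cfsg.Agent.MonsterType
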