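/-
Elements of order 5, 7 and non-central elements of order 3 of `C(z) ∩ C(s)`: their permutations.
-/
import Cfsg.Agent.Lib.MonsterType.OddCent.Position
import Cfsg.Agent.Lib.Mathieu.Classes

set_option autoImplicit false
set_option maxRecDepth 20000

namespace Cfsg.Agent.MonsterType

open Cfsg Cfsg.Agent.Leech

/-- In a group with Sylow `p`-subgroups of order `p`, elements of order `p` are conjugate to powers of
each other. -/
theorem exists_conj_pow_eq {H : Type*} [Group H] [Finite H] {p : ℕ} [hp : Fact p.Prime]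
    (hv : (Nat.card H).factorization p = 1) {τ σ : H} (hτ : orderOf τ = p) (hσ : orderOf σ = p) :
    ∃ (j : ℕ) (a : H), a * τ ^ j * a⁻¹ = σ := by
  classical
  let S : Sylow p H := Sylow.ofCard (Subgroup.zpowers τ) (by rw [Nat.card_zpowers, hτ, hv, pow_one])
  let T : Sylow p H := Sylow.ofCard (Subgroup.zpowers σ) (by rw [Nat.card_zpowers, hσ, hv, pow_one])
  obtain ⟨a, ha⟩ := MulAction.exists_smul_eq H S T
  have hmem : σ ∈ ((a • S : Sylow p H) : Subgroup H) := by
    rw [ha]; exact Subgroup.mem_zpowers σ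
  rw [Sylow.coe_subgroup_smul] at hmem
  obtain ⟨t, ht, e⟩ := hmem
  obtain ⟨j, hj, e'⟩ := (Finset.mem_image.1 ((mem_zpowers_iff_mem_range_orderOf).1 ht))
  refine ⟨j, a, ?_⟩
  rw [← e]
  exact congrArg (fun t => a * t * a⁻¹) e'

theorem factorization_eq_one {n p : ℕ} (hp : p.Prime) (hn : n ≠ 0) (h1 : p ∣ n) (h2 : ¬ p ^ 2 ∣ n) :
    n.factorization p = 1 := by
  refine le_antisymm ?_ ((Nat.Prime.dvd_iff_one_le_factorization hp hn).1 h1)
  by_contra h
  exact h2 ((hp.pow_dvd_iff_le_factorization hn).2 (by omega))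

theorem card_monGrp : Nat.card monGrp = 4096 * 244823040 := by
  rw [← card_fixesStd]
  exact Nat.card_congr (Equiv.subtypeEquiv (Equiv.refl _) fun g => mem_monGrp)

variable {G : Type*} [Group G] [Finite G] {z s : G}

/-- The image in M24 of `C(z) ∩ C(s)`. -/
theorem exists_rhoL (M : Model z) (hv : Rel z s (M.L (eight none))) :
    ∃ ρ : ↥(Subgroup.centralizer ({z, s} : Set G)) →* M24, IsPGroup 2 ρ.ker ∧ Function.Surjective ρ ∧
      ∀ (x : ↥(Subgroup.centralizer ({z, s} : Set G))) (hx : (x : G) ∈ Subgroup.centralizer ({z} : Set G))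
        (g : monGrp), toCo1 (g : Co0) = M.π ⟨x, hx⟩ → ρ x = rho g := by
  have hz : ∀ x : ↥(Subgroup.centralizer ({z, s} : Set G)), Commute (x : G) z ∧ Commute (x : G) s :=
    fun x => ⟨(Subgroup.mem_centralizer_iff.1 x.2 z (Or.inl rfl)).symm,
      (Subgroup.mem_centralizer_iff.1 x.2 s (Or.inr rfl)).symm⟩
  have hlift : ∀ x : ↥(Subgroup.centralizer ({z, s} : Set G)), ∃ g : monGrp,
      toCo1 (g : Co0) = M.π ⟨x, Model.mem_C (hz x).1⟩ := fun x => by
    obtain ⟨g, hg⟩ := QuotientGroup.mk_surjective (M.π ⟨x, Model.mem_C (hz x).1⟩)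
    exact ⟨⟨g, mem_monGrp.2 (fixesStd_iff.2 (M.cls_of_commute hv hg (hz x).2))⟩, hg⟩
  have hn : negElt ∈ monGrp := by
    refine mem_monGrp.2 (fixesStd_iff.2 ?_)
    rw [negElt_smul]
    exact clsV_eq_iff.2 ⟨-eight none, by rw [sub_eq_add_neg]⟩
  have hρn : rho ⟨negElt, hn⟩ = 1 := by
    obtain ⟨c, hc, e⟩ := rho_spec ⟨negElt, hn⟩
    exact ((Leech.Fixed.mono_decomp_unique (c := c) (τ := rho ⟨negElt, hn⟩) (hc := hc) (c' := 1)
      (τ' := 1) (hc' := one_mem_code) (by rw [map_one, mul_one]; exact e.symm)).2)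
  have hwd : ∀ a b : monGrp, toCo1 (a : Co0) = toCo1 (b : Co0) → rho a = rho b := by
    intro a b h
    rcases eq_or_neg_of_toCo1 h with e | e
    · rw [Subtype.ext e]
    · rw [show b = ⟨negElt, hn⟩ * a from Subtype.ext e, map_mul, hρn, one_mul]
  choose g hg using hlift
  refine ⟨MonoidHom.mk' (fun x => rho (g x)) fun x y => ?_, ?_, ?_, fun x hx a ha =>
    hwd _ _ ((hg x).trans ha.symm)⟩
  · rw [← map_mul]
    refine hwd _ _ ((hg (x * y)).trans ?_)
    show M.π (⟨(x : G), Model.mem_C (hz x).1⟩ * ⟨(y : G), Model.mem_C (hz y).1⟩) =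
      toCo1 ((g x : Co0) * (g y : Co0))
    rw [map_mul toCo1, hg, hg, map_mul]
  · intro x
    refine ⟨26, Subtype.ext (Subtype.ext ?_)⟩
    obtain ⟨c, hc, e⟩ := rho_spec (g x.1)
    rw [show rho (g x.1) = 1 from x.2, map_one, mul_one] at e
    have h2 : M.π (⟨(x.1 : G), Model.mem_C (hz x.1).1⟩ ^ 2) = 1 := by
      rw [map_pow, ← hg, ← map_pow, e, pow_two, signElt_sq ⟨c, hc, rfl⟩, map_one]
    have hQ : (x.1 : G) ^ 2 ∈ M.Q := (M.π_ker _).1 h2
    have h25 := pow_card_eq_one' (G := M.Q) (x := ⟨_, hQ⟩)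
    rw [M.card_Q] at h25
    show (x.1 : G) ^ 2 ^ 26 = 1
    rw [show (2 : ℕ) ^ 26 = 2 * 2 ^ 25 from rfl, pow_mul]
    exact congrArg Subtype.val h25
  · intro σ
    obtain ⟨hs1, hsz⟩ := (Model.IsType.not_central M (N := 64) (by norm_num)
      ⟨eight none, sqNorm_eight none, hv⟩ : s ≠ 1 ∧ s ≠ z)
    obtain ⟨h, hh, hhs⟩ := M.exists_lift hv hs1 hsz (g := permHom σ)
      (fixesStd_iff.1 (mem_monGrp.1 (permHom_mem_monGrp σ)))
    refine ⟨⟨h, Subgroup.mem_centralizer_iff.2 ?_⟩, ?_⟩
    · rintro y (rfl | rfl)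
      · exact (Model.commute_of_mem_C h.2).symm.eq
      · exact hhs.symm.eq
    · exact (hwd (g _) ⟨permHom σ, permHom_mem_monGrp σ⟩ ((hg _).trans hh.symm)).trans (rho_permHom σ)

/-- `v_p |C(z) ∩ C(s)| = v_p |M24|` for odd `p`. -/
theorem factorization_centralizer (M : Model z) (hv : Rel z s (M.L (eight none))) {p : ℕ}
    (hp : p.Prime) (hp2 : p ≠ 2) :
    (Nat.card ↥(Subgroup.centralizer ({z, s} : Set G))).factorization p =
      (Nat.card M24).factorization p := by
  obtain ⟨ρ, hker, hsurj, -⟩ := exists_rhoL M hv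
  have : Fact (Nat.Prime 2) := ⟨Nat.prime_two⟩
  obtain ⟨k, hk⟩ := IsPGroup.iff_card.1 hker
  rw [card_eq_ker_mul_range ρ, MonoidHom.range_eq_top.2 hsurj, Subgroup.card_top, hk,
    Nat.factorization_mul (pow_ne_zero _ two_ne_zero) Nat.card_pos.ne', Finsupp.add_apply,
    Nat.factorization_eq_zero_of_not_dvd
      (fun h => hp2 ((Nat.prime_dvd_prime_iff_eq hp Nat.prime_two).1 (hp.dvd_of_dvd_pow h))),
    zero_add]

/-- The permutation of a non-central element of order 3 has no fixed points: it is conjugate to a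
power of the standard one. -/
theorem three_class (M : Model z) (hv : Rel z s (M.L (eight none)))
    {y : ↥(Subgroup.centralizer ({z, s} : Set G))} (hy : orderOf y = 3)
    (hnc : ∀ P : Sylow 3 ↥(Subgroup.centralizer ({z, s} : Set G)),
      ¬ Subgroup.zpowers y ≤ (Subgroup.center ↥(P : Subgroup ↥(Subgroup.centralizer ({z, s} : Set G)))).map
        (P : Subgroup ↥(Subgroup.centralizer ({z, s} : Set G))).subtype)
    {σ : M24} (hσ : Mathieu.Rep Mathieu.ptEnc ((σ : Equiv.Perm GolayPt)⁻¹) Mathieu.three24_0)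
    (g : monGrp) (hyz : (y : G) ∈ Subgroup.centralizer ({z} : Set G))
    (hg : toCo1 (g : Co0) = M.π ⟨y, hyz⟩) (hτ : orderOf (rho g) = 3) :
    ∃ (j : ℕ) (a : M24), a * rho g ^ j * a⁻¹ = σ := by
  have : Fact (Nat.Prime 3) := ⟨Nat.prime_three⟩
  obtain ⟨w, hw, c, hc⟩ := Mathieu.M24_three_cases (rho g) hτ
  simp only [List.mem_cons, List.not_mem_nil, or_false] at hw
  rcases hw with rfl | rfl
  · exfalso
    obtain ⟨ρ, hker, hsurj, hρ⟩ := exists_rhoL M hv
    obtain ⟨hS, hcard, -, -⟩ := Mathieu.cert_group (e := Mathieu.ptEnc) (C := Mathieu.syl24Three)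
      (H := M24) (by norm_num) Mathieu.mem24_sound (by decide +kernel)
    set S := (Mathieu.genGroup Mathieu.ptEnc Mathieu.syl24Three.gens).subgroupOf M24 with hSdef
    have hS27 : Nat.card S = 3 ^ (Nat.card M24).factorization 3 := by
      rw [Mathieu.M24_factorization_three, Nat.card_congr (Subgroup.subgroupOfEquivOfLe hS).toEquiv, hcard]
      decide +kernel
    set x : M24 := c * rho g * c⁻¹ with hx
    have hxc : ∀ t ∈ S, t * x = x * t := by
      intro t ht
      refine Subtype.ext ?_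
      show (t : Equiv.Perm GolayPt) * (x : Equiv.Perm GolayPt) = (x : Equiv.Perm GolayPt) * (t : Equiv.Perm GolayPt)
      have ht' : (t : Equiv.Perm GolayPt) ∈ Mathieu.genGroup Mathieu.ptEnc Mathieu.syl24Three.gens :=
        Subgroup.mem_subgroupOf.1 ht
      generalize (t : Equiv.Perm GolayPt) = u at ht' ⊢
      induction ht' using Subgroup.closure_induction with
      | mem q hq =>
        obtain ⟨l, hl, hql⟩ := hq
        have hall : (Mathieu.syl24Three.gens.all fun l => Mathieu.commP 24 l Mathieu.three24_6) = true := by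
          decide +kernel
        exact (Mathieu.commP_iff hql hc).1 (List.all_eq_true.1 hall l hl)
      | one => simp
      | mul a b _ _ ha hb => rw [mul_assoc, hb, ← mul_assoc, ha, mul_assoc]
      | inv a _ ha => exact (Commute.inv_left ha).eq
    let T : Sylow 3 M24 := Sylow.ofCard S hS27
    have hxT : x ∈ S := by
      have h3 : IsPGroup 3 (Subgroup.zpowers x) := IsPGroup.of_card (n := 1) (by
        rw [Nat.card_zpowers, pow_one, hx]
        exact (orderOf_injective (MulAut.conj c).toMonoidHom (MulAut.conj c).injective _).trans hτ)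
      have hN : x ∈ Subgroup.normalizer ((T : Subgroup M24) : Set M24) := by
        refine Subgroup.mem_normalizer_iff.2 fun t => ⟨fun ht => ?_, fun ht => ?_⟩
        · rw [← hxc t ht, mul_inv_cancel_right]; exact ht
        · have h' := hxc _ ht
          have : t = x * t * x⁻¹ := by
            calc t = x⁻¹ * (x * t * x⁻¹ * x) := by group
              _ = x⁻¹ * (x * (x * t * x⁻¹)) := by rw [h']
              _ = _ := by group
          rw [this]; exact ht
      exact ((Subgroup.mem_inf.1 (h3.inf_normalizer_sylow T ▸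
        Subgroup.mem_inf.2 ⟨Subgroup.mem_zpowers x, hN⟩)).2)
    have hρy : ρ y = rho g := hρ y hyz g hg
    set S' : Subgroup M24 := S.map (MulAut.conj c⁻¹).toMonoidHom with hS'
    have hyS' : ρ y ∈ S' := ⟨x, hxT, by rw [hρy, hx]; simp [mul_assoc]⟩
    have hcomm : ∀ t ∈ S', t * ρ y = ρ y * t := by
      rintro _ ⟨u, hu, rfl⟩
      rw [hρy, show rho g = (MulAut.conj c⁻¹).toMonoidHom x by rw [hx]; simp [mul_assoc], ← map_mul,
        ← map_mul, hxc u hu]
    obtain ⟨P, hP⟩ := (IsPGroup.of_card (n := 1) (by rw [Nat.card_zpowers, pow_one]; exact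
      (orderOf_injective (S'.comap ρ).subtype (Subgroup.subtype_injective _) ⟨y, hyS'⟩).symm.trans hy) :
      IsPGroup 3 (Subgroup.zpowers (⟨y, hyS'⟩ : S'.comap ρ))).exists_le_sylow
    have hinj : ∀ a : ↥(Subgroup.centralizer ({z, s} : Set G)),
        a ∈ (P : Subgroup (S'.comap ρ)).map (S'.comap ρ).subtype → ρ a = 1 → a = 1 := by
      rintro _ ⟨a, ha, rfl⟩ h1
      have h3 : IsPGroup 3 (P : Subgroup (S'.comap ρ)) := P.isPGroup'
      obtain ⟨k, hk⟩ := h3 ⟨a, ha⟩
      obtain ⟨l, hl⟩ := hker ⟨(a : ↥(Subgroup.centralizer ({z, s} : Set G))), h1⟩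
      have e3 := orderOf_dvd_of_pow_eq_one (congrArg (fun q : (P : Subgroup (S'.comap ρ)) =>
        ((q : S'.comap ρ) : ↥(Subgroup.centralizer ({z, s} : Set G)))) hk)
      have e2 := orderOf_dvd_of_pow_eq_one (congrArg Subtype.val hl)
      have := Nat.dvd_gcd e3 e2
      rw [Nat.Coprime.gcd_eq_one (Nat.Coprime.pow _ _ (by norm_num))] at this
      exact orderOf_eq_one_iff.1 (Nat.dvd_one.1 this)
    let R : Sylow 3 ↥(Subgroup.centralizer ({z, s} : Set G)) :=
      Sylow.ofCard ((P : Subgroup (S'.comap ρ)).map (S'.comap ρ).subtype) (by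
        rw [Subgroup.card_map_of_injective (Subgroup.subtype_injective _), P.card_eq_multiplicity]
        congr 1
        have : Fact (Nat.Prime 2) := ⟨Nat.prime_two⟩
        obtain ⟨k, hk⟩ := IsPGroup.iff_card.1 hker
        rw [factorization_centralizer M hv Nat.prime_three (by norm_num),
          Mathieu.M24_factorization_three]
        have h1 := card_eq_ker_mul_range (ρ.comp (S'.comap ρ).subtype)
        rw [MonoidHom.range_comp, Subgroup.range_subtype, Subgroup.map_comap_eq_self_of_surjective hsurj,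
          hS', Subgroup.card_map_of_injective (MulAut.conj c⁻¹).injective, hS27,
          Mathieu.M24_factorization_three] at h1
        have h2 : Nat.card (ρ.comp (S'.comap ρ).subtype).ker = 2 ^ k := by
          rw [← hk]
          refine Nat.card_congr ⟨fun a => ⟨(a.1 : ↥(Subgroup.centralizer ({z, s} : Set G))), a.2⟩,
            fun a => ⟨⟨a.1, by
              show ρ a.1 ∈ S'
              rw [show ρ a.1 = 1 from a.2]; exact S'.one_mem⟩, a.2⟩,
            fun a => rfl, fun a => rfl⟩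
        rw [h1, h2, Nat.factorization_mul (pow_ne_zero _ two_ne_zero) (by norm_num), Finsupp.add_apply,
          Nat.Prime.factorization_pow Nat.prime_three, Finsupp.single_eq_same,
          Nat.factorization_eq_zero_of_not_dvd (fun h => by
            have := Nat.prime_three.dvd_of_dvd_pow h
            omega), zero_add])
    refine hnc R (Subgroup.zpowers_le.2 ?_)
    have hyR : y ∈ (R : Subgroup ↥(Subgroup.centralizer ({z, s} : Set G))) :=
      ⟨⟨y, hyS'⟩, hP (Subgroup.mem_zpowers _), rfl⟩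
    refine ⟨⟨y, hyR⟩, Subgroup.mem_center_iff.2 fun q => Subtype.ext ?_, rfl⟩
    show (q : ↥(Subgroup.centralizer ({z, s} : Set G))) * y = y * q
    rw [← mul_inv_eq_iff_eq_mul, ← mul_inv_eq_one]
    refine hinj _ (Subgroup.mul_mem _ (Subgroup.mul_mem _ (Subgroup.mul_mem _ q.2 hyR)
      (Subgroup.inv_mem _ q.2)) (Subgroup.inv_mem _ hyR)) ?_
    obtain ⟨u, -, hu⟩ := q.2
    have hqS : ρ (q : ↥(Subgroup.centralizer ({z, s} : Set G))) ∈ S' := hu ▸ u.2
    rw [map_mul, map_mul, map_mul, map_inv, map_inv, hcomm _ hqS, mul_inv_cancel_right, mul_inv_cancel]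
  · refine ⟨2, c, ?_⟩
    have e : ((c * rho g * c⁻¹ : M24) : Equiv.Perm GolayPt) = (σ : Equiv.Perm GolayPt)⁻¹ := hc.unique hσ
    have e' : c * rho g * c⁻¹ = σ⁻¹ := Subtype.ext (by rw [e, Subgroup.coe_inv])
    have h3 : rho g ^ 2 = (rho g)⁻¹ :=
      eq_inv_of_mul_eq_one_left (by rw [← pow_succ, show 2 + 1 = orderOf (rho g) from hτ.symm, pow_orderOf_eq_one])
    rw [h3, ← inv_inj, ← e']
    group

end Cfsg.Agent.MonsterType
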