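/-
From the hypotheses of the odd centraliser statements to standard position.
-/
import Cfsg.Agent.Lib.MonsterType.OddCent.Bar
import Cfsg.Agent.Lib.MonsterType.OddCent.Classes

set_option autoImplicit false

namespace Cfsg.Agent.MonsterType

open Cfsg Cfsg.Agent.Leech

variable {G : Type*} [Group G] [Finite G] {z s : G}

theorem commute_of_mem_pair {x : G} (hx : x ∈ Subgroup.centralizer ({z, s} : Set G)) :
    Commute x z ∧ Commute x s :=
  ⟨(Subgroup.mem_centralizer_iff.1 hx z (Or.inl rfl)).symm,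
    (Subgroup.mem_centralizer_iff.1 hx s (Or.inr rfl)).symm⟩

/-- A subgroup of order `p` of `C(z) ∩ C(s)` in standard position. -/
theorem exists_oddPos (D : Fixed.Data) (hD : D.OK) (M : Model z) (hsQ : s ∈ M.Q) (hs : IsConj z s)
    (hs1 : s ≠ z) {B : Subgroup G} (hB : B ≤ Subgroup.centralizer ({z, s} : Set G))
    (hcard : Nat.card B = D.p)
    (hclass : ∀ (b : G) (hb : b ∈ Subgroup.centralizer ({z, s} : Set G)), Subgroup.zpowers b = B →
      orderOf b = D.p → ∀ (M' : Model z), Rel z s (M'.L (eight none)) →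
      ∀ g : monGrp, toCo1 (g : Co0) = M'.π ⟨b, Model.mem_C (commute_of_mem_pair hb).1⟩ →
        orderOf (rho g) = D.p → ∃ (j : ℕ) (a : M24), a * rho g ^ j * a⁻¹ = hD.σ) :
    ∃ P : OddPos z B, P.D = D ∧ P.M.Q = M.Q ∧ P.M.IsType 64 s ∧ Commute P.b s := by
  have := Fact.mk hD.prime
  have : Nontrivial B := Finite.one_lt_card_iff_nontrivial.1 (by rw [hcard]; exact hD.prime.one_lt)
  obtain ⟨b, hbne⟩ := exists_ne (1 : B)
  have hbo : orderOf (b : G) = D.p := by
    rw [Subgroup.orderOf_coe]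
    rcases (Nat.dvd_prime hD.prime).1 (hcard ▸ orderOf_dvd_natCard b) with h | h
    · exact absurd (orderOf_eq_one_iff.1 h) hbne
    · exact h
  have hzp : Subgroup.zpowers (b : G) = B :=
    Subgroup.eq_of_le_of_card_ge (Subgroup.zpowers_le.2 b.2) (by rw [Nat.card_zpowers, hbo, hcard])
  obtain ⟨hbz, hbs⟩ := commute_of_mem_pair (hB b.2)
  obtain ⟨M', b', hb', hQ, hv, hbo', hzp', hbs', hπ⟩ :=
    exists_position M hsQ hs hs1 hD.odd hbz hbs hbo hD.σ hD.orderOf_σ
      (fun M' _ hv g hg ho => hclass b (hB b.2) hzp hbo M' hv g hg ho)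
  exact ⟨⟨M', D, hD, b', hb', hbo', hzp'.trans hzp, hπ⟩, rfl, hQ,
    ⟨eight none, sqNorm_eight none, hv⟩, hbs'⟩

/-- The order of a Sylow `p`-subgroup of `C(z) ∩ C(s)`, `p` dividing `|M24|` once. -/
theorem card_sylow_pair (M : Model z) (hsQ : s ∈ M.Q) (hs : IsConj z s) (hs1 : s ≠ z) {p : ℕ}
    (hp : p.Prime) (hp2 : p ≠ 2) (h1 : p ∣ 244823040) (h2 : ¬ p ^ 2 ∣ 244823040) :
    p ^ (Nat.card ↥(Subgroup.centralizer ({z, s} : Set G))).factorization p = p := by
  obtain ⟨v, hv, hvs⟩ := M.type64_of_conj hsQ hs hs1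
  obtain ⟨k, hk⟩ := co0_transitive (eight none) v 64 (by norm_num) (sqNorm_eight none) hv
  rw [factorization_centralizer (M.twist k) (by rw [Model.twist_L, hk]; exact hvs) hp hp2,
    Mathieu.card_M24, factorization_eq_one hp (by norm_num) h1 h2, pow_one]

end Cfsg.Agent.MonsterType
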