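/-
In `C(B)/B`, `B` of order 7: two `z̄`-conjugate centres share only their own three conjugates.
-/
import Cfsg.Agent.Lib.MonsterType.OddCent.Final
import Cfsg.Agent.Lib.Leech.Fixed.SevenPair

set_option autoImplicit false
set_option linter.unusedSectionVars false

namespace Cfsg.Agent.MonsterType

open Cfsg Cfsg.Agent.Leech Cfsg.Agent.Leech.Fixed

variable {G : Type*} [Group G] [Finite G] {z : G}

/-- An element of order 7 of `M24` is conjugate to a power of the standard one. -/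
theorem seven_class {τ : M24} (hτ : orderOf τ = 7) :
    ∃ (j : ℕ) (a : M24), a * τ ^ j * a⁻¹ = Seven.ok.σ :=
  have : Fact (Nat.Prime 7) := ⟨by norm_num⟩
  exists_conj_pow_eq (factorization_eq_one (by norm_num) Nat.card_pos.ne'
    (by rw [Mathieu.card_M24]; norm_num) (by rw [Mathieu.card_M24]; norm_num)) hτ Seven.ok.orderOf_σ

namespace Model

theorem pow_big (M : Model z) {x : G} (hx : x ∈ M.Q) : x ^ 2 ^ 26 = 1 := by
  have h25 := pow_card_eq_one' (G := M.Q) (x := ⟨x, hx⟩)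
  rw [M.card_Q] at h25
  rw [show (2 : ℕ) ^ 26 = 2 ^ 25 * 2 from rfl, pow_mul,
    show x ^ 2 ^ 25 = 1 from congrArg Subtype.val h25, one_pow]

theorem conj_pow_big (M : Model z) {x : G} (hx : x ∈ M.Q) (g : G) : (g * x * g⁻¹) ^ 2 ^ 26 = 1 := by
  rw [conj_pow, M.pow_big hx, mul_one, mul_inv_cancel]

end Model

namespace OddPos

variable {B : Subgroup G} (P : OddPos z B)
  [(B.subgroupOf (Subgroup.centralizer (B : Set G))).Normal]

include P

theorem eq_of_mk_eq {x y : Subgroup.centralizer (B : Set G)}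
    (hx : (x : G) ^ 2 ^ 26 = 1) (hy : (y : G) ^ 2 ^ 26 = 1)
    (h : (QuotientGroup.mk x : P.CBar) = QuotientGroup.mk y) : (x : G) = y := by
  have hβ : (x : G)⁻¹ * (y : G) ∈ B := Subgroup.mem_subgroupOf.1 (QuotientGroup.eq.1 h)
  have hcb : Commute (x : G) ((x : G)⁻¹ * (y : G)) := P.mem_B_comm x.2 hβ
  refine inv_mul_eq_one.1 (P.eq_one_of_pow_two hβ (k := 26) ?_)
  have := hcb.mul_pow (2 ^ 26)
  rw [mul_inv_cancel_left, hx, hy, one_mul] at this
  exact this.symm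

/-- The subgroup `Q̄` of `C(B)/B`. -/
noncomputable def qC : Subgroup P.CBar :=
  P.qBar.map (Subgroup.centralizer ({P.zBar} : Set P.CBar)).subtype

theorem mem_qC {x : P.CBar} (hx : x ∈ P.qC) :
    ∃ q : Subgroup.centralizer (B : Set G), (q : G) ∈ P.M.Q ∧ QuotientGroup.mk q = x := by
  obtain ⟨_, ⟨u, hu, rfl⟩, rfl⟩ := hx
  exact ⟨⟨u, u.2.2⟩, hu, rfl⟩

/-- The common part of `Q̄` and `Q̄^a` holds only the three evident conjugates of `z̄`. -/
theorem seven_signature (hp : P.D.p = 7) {a x : P.CBar} (hw : a * P.zBar * a⁻¹ ∈ P.qC)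
    (hne : a * P.zBar * a⁻¹ ≠ P.zBar) (hx : x ∈ P.qC) (hxa : a⁻¹ * x * a ∈ P.qC)
    (hc : IsConj P.zBar x) :
    x = P.zBar ∨ x = a * P.zBar * a⁻¹ ∨ x = a * P.zBar * a⁻¹ * P.zBar := by
  obtain ⟨g, rfl⟩ := QuotientGroup.mk_surjective a
  obtain ⟨u, hu, huw⟩ := P.mem_qC hw
  rw [P.conj_zBar] at huw
  have huz : (u : G) = (g : G) * z * (g : G)⁻¹ :=
    P.eq_of_mk_eq (P.M.pow_big hu) (P.M.conj_pow_big P.M.hub.mem (g : G)) huw
  have hwQ : (g : G) * z * (g : G)⁻¹ ∈ P.M.Q :=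
    huz ▸ hu
  have hwne : (g : G) * z * (g : G)⁻¹ ≠ z := fun e => hne (by
    rw [P.conj_zBar]; exact congrArg _ (Subtype.ext e))
  obtain ⟨q, hq, rfl⟩ := P.mem_qC hx
  obtain ⟨q', hq', e⟩ := P.mem_qC hxa
  have hqe : (QuotientGroup.mk q : P.CBar) = QuotientGroup.mk (g * q' * g⁻¹) := by
    rw [QuotientGroup.mk_mul, QuotientGroup.mk_mul, QuotientGroup.mk_inv, e]
    group
  have hqg : (q : G) = (g : G) * q' * (g : G)⁻¹ :=
    P.eq_of_mk_eq (P.M.pow_big hq) (P.M.conj_pow_big hq' (g : G)) hqe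
  obtain ⟨c, hc⟩ := isConj_iff.1 hc
  obtain ⟨h, rfl⟩ := QuotientGroup.mk_surjective c
  rw [P.conj_zBar] at hc
  have hqc := P.eq_of_mk_eq (P.M.conj_pow_big P.M.hub.mem (h : G)) (P.M.pow_big hq) hc
  by_cases hqz : (q : G) = z
  · exact Or.inl (congrArg _ (Subtype.ext hqz))
  right
  have : Fact (Nat.Prime 7) := ⟨by norm_num⟩
  have hbw : Commute P.b ((g : G) * z * (g : G)⁻¹) := by
    rw [← huz]; exact (P.mem_CB.1 u.2).symm
  obtain ⟨M', b', hb', hQ, hv, hbo', hzp', -, hπ⟩ :=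
    exists_position P.M hwQ (isConj_iff.2 ⟨g, rfl⟩) hwne (p := 7) (by decide) P.hbz hbw
      (hp ▸ P.hbo) Seven.ok.σ Seven.ok.orderOf_σ (fun _ _ _ _ _ hτ => seven_class hτ)
  let P' : OddPos z B := ⟨M', Seven.dat, Seven.ok, b', hb', hbo', hzp'.trans P.hB, hπ⟩
  have hqQ' : (q : G) ∈ M'.Q := hQ ▸ hq
  have hqgQ' : (q : G) ∈ M'.conjQ (g : G) := ⟨q', hQ ▸ hq', hqg.symm⟩
  obtain ⟨m, hm⟩ := P'.exists_elt_rel (a := (q : G)) hqQ' (P'.mem_CB.1 q.2).symm
  have hmS : m ∈ Seven.normS := by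
    obtain ⟨v, hv64, hvr⟩ := M'.type64_of_conj hqQ' (isConj_iff.2 ⟨(h : G), hqc⟩) hqz
    rw [← Seven.ok.coord_comb m, Seven.ok.coord_mem_iff Seven.typeCert (Seven.ok.fixed_comb m)]
    exact ⟨v, hv64, M'.L_congr.1 (M'.rel_trans (M'.rel_symm hm) hvr)⟩
  have h8 : clsV (Seven.ok.comb m) = clsV (eight none) := by
    refine Seven.cls_eight_of_sign hmS fun a ha => ?_
    have hi : toCo1 a ∈ M'.imgQ (g : G) := by
      rw [(M'.std_pair hwne hv).1]; exact Subgroup.mem_map_of_mem _ ha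
    obtain ⟨r, hr, hra⟩ := hi
    have hact := M'.L_act r a hra.symm (Seven.ok.comb m)
    have hrq : Rel z ((r : G) * q * (r : G)⁻¹) ((r : G) * M'.L (Seven.ok.comb m) * (r : G)⁻¹) :=
      Model.rel_conj (Model.commute_of_mem_C r.2) hm
    have hra' := M'.rel_symm (M'.rel_trans hrq hact)
    rcases (M'.hubConj (g : G)).comm (r : G) hr.1 (q : G) hqgQ' with e | e <;> rw [e] at hra'
    · exact Or.inl (M'.L_congr.1 (M'.rel_trans hra' hm))
    · exact Or.inr (M'.L_congr.1 (M'.rel_trans hra'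
        (M'.rel_trans (M'.rel_mul (M'.L_mem _) hm hv) (M'.rel_symm (M'.L_add _ _)))))
  have hqw : Rel z (q : G) ((g : G) * z * (g : G)⁻¹) :=
    M'.rel_trans hm (M'.rel_trans (M'.L_congr.2 h8) (M'.rel_symm hv))
  rw [P.conj_zBar]
  rcases hqw with e | e
  · exact Or.inl (congrArg _ (Subtype.ext e))
  · refine Or.inr ?_
    rw [zBar, ← QuotientGroup.mk_mul]
    exact congrArg _ (Subtype.ext e)

end OddPos

end Cfsg.Agent.MonsterType
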